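import Groth.Agent.ConsProp93.Criterion
import Groth.Agent.QCPull72.Sections
import Groth.Prelude.Def_W4ega4s0809p4Pair

/-! Loci of constructible properties: base change, and constructibility over locally Noetherian bases. -/

set_option autoImplicit false
universe u

open CategoryTheory CategoryTheory.Limits AlgebraicGeometry TopologicalSpace Topology

namespace Groth.Agent.ConsProp93

theorem isCoh_pullback {X Y : Scheme.{u}} (f : Y ⟶ X) {F : X.Modules} (hF : Coh.IsCoh F) :
    Coh.IsCoh ((Scheme.Modules.pullback f).obj F) := by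
  have := hF.1
  have := hF.2
  exact ⟨QCPull72.isQuasicoherent_pullback f F, QCPull72.isFiniteType_pullback f F⟩

theorem locus_preimage {P : ∀ ⦃Y T : Scheme.{u}⦄, (Y ⟶ T) → Prop} (hP : ConsProp.IsFieldStable P)
    {X X' S S' : Scheme.{u}} {e : X' ⟶ X} {u' : X' ⟶ S'} {u : X ⟶ S} {j : S' ⟶ S}
    (h : IsPullback e u' u j) [LocallyOfFiniteType u] [QuasiCompact u] :
    ConsProp.locus P u' = j ⁻¹' ConsProp.locus P u := by
  ext s'
  obtain ⟨m, -, hm⟩ := exists_isPullback_fiber h s'
  exact (hP _ _ m _ hm).symm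

theorem locusMod_preimage {P : ∀ ⦃Y T : Scheme.{u}⦄, (Y ⟶ T) → Y.Modules → Prop}
    (hP : ConsProp.IsFieldStableMod P) {X X' S S' : Scheme.{u}} {e : X' ⟶ X} {u' : X' ⟶ S'}
    {u : X ⟶ S} {j : S' ⟶ S} (h : IsPullback e u' u j) [LocallyOfFiniteType u] [QuasiCompact u]
    (F : X.Modules) (hF : Coh.IsCoh F) :
    ConsProp.locusMod P u' ((Scheme.Modules.pullback e).obj F) = j ⁻¹' ConsProp.locusMod P u F := by
  ext s'
  obtain ⟨m, hmι, hm⟩ := exists_isPullback_fiber h s'
  exact (hP _ _ m _ hm _ _ (isCoh_pullback _ hF)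
    ((Scheme.Modules.pullbackComp (u'.fiberι s') e).app F ≪≫
      (Scheme.Modules.pullbackCongr hmι.symm).app F ≪≫
      ((Scheme.Modules.pullbackComp m (u.fiberι (j s'))).app F).symm)).symm

theorem locusMor_preimage {P : ∀ ⦃X Y T : Scheme.{u}⦄, (X ⟶ Y) → (Y ⟶ T) → Prop}
    (hP : ConsProp.IsFieldStableMor P) {X X' Y Y' S S' : Scheme.{u}} {eX : X' ⟶ X} {eY : Y' ⟶ Y}
    {f' : X' ⟶ Y'} {g' : Y' ⟶ S'} {f : X ⟶ Y} {g : Y ⟶ S} {j : S' ⟶ S}
    (hY : IsPullback eY g' g j) (hX : IsPullback eX f' f eY)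
    [LocallyOfFiniteType g] [QuasiCompact g] [LocallyOfFiniteType (f ≫ g)] [QuasiCompact (f ≫ g)] :
    ConsProp.locusMor P f' g' = j ⁻¹' ConsProp.locusMor P f g := by
  ext s'
  obtain ⟨mY, hmYι, hmY⟩ := exists_isPullback_fiber hY s'
  obtain ⟨mX, hmXι, hmX⟩ := exists_isPullback_fiber (hX.paste_vert hY) s'
  have hcomp : ∀ {A B C : Scheme.{u}} (a : A ⟶ B) (b : B ⟶ C) (s : C),
      MoreMor.fiberMap a b s ≫ b.fiberToSpecResidueField s = (a ≫ b).fiberToSpecResidueField s :=
    fun a b s => pullback.lift_snd _ _ _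
  have w : MoreMor.fiberMap f' g' s' ≫ mY = mX ≫ MoreMor.fiberMap f g (j s') := by
    apply pullback.hom_ext
    · show (MoreMor.fiberMap f' g' s' ≫ mY) ≫ g.fiberι (j s') = (mX ≫ _) ≫ g.fiberι (j s')
      rw [Category.assoc, hmYι, Category.assoc,
        show MoreMor.fiberMap f g (j s') ≫ g.fiberι (j s') = (f ≫ g).fiberι (j s') ≫ f from pullback.lift_fst _ _ _,
        ← Category.assoc, show MoreMor.fiberMap f' g' s' ≫ g'.fiberι s' = (f' ≫ g').fiberι s' ≫ f' from
          pullback.lift_fst _ _ _, Category.assoc, ← hX.w, ← Category.assoc mX, hmXι, Category.assoc]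
    · show (MoreMor.fiberMap f' g' s' ≫ mY) ≫ g.fiberToSpecResidueField _ = (mX ≫ _) ≫ g.fiberToSpecResidueField _
      rw [Category.assoc, hmY.w, ← Category.assoc, hcomp, Category.assoc, hcomp, hmX.w]
  have hsq : IsPullback mX (MoreMor.fiberMap f' g' s') (MoreMor.fiberMap f g (j s')) mY := by
    refine IsPullback.of_bot ?_ w.symm hmY
    rw [hcomp, hcomp]
    exact hmX
  have : LocallyOfFiniteType (MoreMor.fiberMap f g (j s') ≫ g.fiberToSpecResidueField (j s')) := by
    rw [hcomp]; infer_instance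
  have : QuasiCompact (MoreMor.fiberMap f g (j s') ≫ g.fiberToSpecResidueField (j s')) := by
    rw [hcomp]; infer_instance
  exact (hP _ _ _ _ mX mY _ hmY hsq).symm

theorem locusPair_preimage {P : ∀ ⦃X Y T : Scheme.{u}⦄, (X ⟶ T) → (Y ⟶ T) → Prop}
    (hP : ConsPropPair.IsFieldStablePair P) {X X' Y Y' S S' : Scheme.{u}} {eX : X' ⟶ X} {eY : Y' ⟶ Y}
    {u' : X' ⟶ S'} {v' : Y' ⟶ S'} {u : X ⟶ S} {v : Y ⟶ S} {j : S' ⟶ S}
    (hX : IsPullback eX u' u j) (hY : IsPullback eY v' v j)
    [LocallyOfFiniteType u] [QuasiCompact u] [LocallyOfFiniteType v] [QuasiCompact v] :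
    ConsPropPair.locusPair P u' v' = j ⁻¹' ConsPropPair.locusPair P u v := by
  ext s'
  obtain ⟨mX, -, hmX⟩ := exists_isPullback_fiber hX s'
  obtain ⟨mY, -, hmY⟩ := exists_isPullback_fiber hY s'
  exact (hP _ _ _ _ mX mY _ hmX hmY).symm

section Noetherian

variable {X Y S : Scheme.{u}} [IsLocallyNoetherian S]

theorem isIndConstructible_locus {P : ∀ ⦃Y T : Scheme.{u}⦄, (Y ⟶ T) → Prop} (hP : ConsProp.IsIndCons P)
    (u : X ⟶ S) [LocallyOfFiniteType u] [QuasiCompact u] :
    ProCons.IsIndConstructible (ConsProp.locus P u) :=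
  isIndConstructible_of_integral fun Z j _ _ h => by
    rw [← locus_preimage hP.1 (IsPullback.of_hasPullback u j)] at h ⊢
    exact hP.2 _ h

theorem isLocallyConstructible_locus {P : ∀ ⦃Y T : Scheme.{u}⦄, (Y ⟶ T) → Prop} (hP : ConsProp.IsCons P)
    (u : X ⟶ S) [LocallyOfFiniteType u] [QuasiCompact u] :
    IsLocallyConstructible (ConsProp.locus P u) :=
  isLocallyConstructible_of_integral fun Z j _ _ => by
    rw [← locus_preimage hP.1 (IsPullback.of_hasPullback u j)]
    exact hP.2 _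

theorem isIndConstructible_locusMod_noetherian {P : ∀ ⦃Y T : Scheme.{u}⦄, (Y ⟶ T) → Y.Modules → Prop}
    (hP : ConsProp.IsIndConsMod P) (u : X ⟶ S) [LocallyOfFiniteType u] [QuasiCompact u]
    (F : X.Modules) (hF : Coh.IsCoh F) : ProCons.IsIndConstructible (ConsProp.locusMod P u F) :=
  isIndConstructible_of_integral fun Z j _ _ h => by
    rw [← locusMod_preimage hP.1 (IsPullback.of_hasPullback u j) F hF] at h ⊢
    exact hP.2 _ _ (isCoh_pullback _ hF) h

theorem isLocallyConstructible_locusMod_noetherian {P : ∀ ⦃Y T : Scheme.{u}⦄, (Y ⟶ T) → Y.Modules → Prop}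
    (hP : ConsProp.IsConsMod P) (u : X ⟶ S) [LocallyOfFiniteType u] [QuasiCompact u]
    (F : X.Modules) (hF : Coh.IsCoh F) : IsLocallyConstructible (ConsProp.locusMod P u F) :=
  isLocallyConstructible_of_integral fun Z j _ _ => by
    rw [← locusMod_preimage hP.1 (IsPullback.of_hasPullback u j) F hF]
    exact hP.2 _ _ (isCoh_pullback _ hF)

theorem isIndConstructible_locusPair_noetherian {P : ∀ ⦃X Y T : Scheme.{u}⦄, (X ⟶ T) → (Y ⟶ T) → Prop}
    (hP : ConsPropPair.IsIndConsPair P) (u : X ⟶ S) (v : Y ⟶ S) [LocallyOfFiniteType u] [QuasiCompact u]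
    [LocallyOfFiniteType v] [QuasiCompact v] :
    ProCons.IsIndConstructible (ConsPropPair.locusPair P u v) :=
  isIndConstructible_of_integral fun Z j _ _ h => by
    rw [← locusPair_preimage hP.1 (IsPullback.of_hasPullback u j) (IsPullback.of_hasPullback v j)] at h ⊢
    exact hP.2 _ _ h

theorem isLocallyConstructible_locusPair_noetherian {P : ∀ ⦃X Y T : Scheme.{u}⦄, (X ⟶ T) → (Y ⟶ T) → Prop}
    (hP : ConsPropPair.IsConsPair P) (u : X ⟶ S) (v : Y ⟶ S) [LocallyOfFiniteType u] [QuasiCompact u]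
    [LocallyOfFiniteType v] [QuasiCompact v] :
    IsLocallyConstructible (ConsPropPair.locusPair P u v) :=
  isLocallyConstructible_of_integral fun Z j _ _ => by
    rw [← locusPair_preimage hP.1 (IsPullback.of_hasPullback u j) (IsPullback.of_hasPullback v j)]
    exact hP.2 _ _

/-- The base change of a morphism over `S` along `j`. -/
theorem isPullback_snd_fst {Z : Scheme.{u}} (f : X ⟶ Y) (g : Y ⟶ S) (j : Z ⟶ S) :
    IsPullback (pullback.fst f (pullback.fst g j)) (pullback.snd f (pullback.fst g j) ≫ pullback.snd g j)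
      (f ≫ g) j :=
  (IsPullback.of_hasPullback f (pullback.fst g j)).paste_vert (IsPullback.of_hasPullback g j)

theorem isIndConstructible_locusMor_noetherian {P : ∀ ⦃X Y T : Scheme.{u}⦄, (X ⟶ Y) → (Y ⟶ T) → Prop}
    (hP : ConsProp.IsIndConsMor P) (f : X ⟶ Y) (g : Y ⟶ S) [LocallyOfFiniteType g] [QuasiCompact g]
    [LocallyOfFiniteType (f ≫ g)] [QuasiCompact (f ≫ g)] :
    ProCons.IsIndConstructible (ConsProp.locusMor P f g) :=
  isIndConstructible_of_integral fun Z j _ _ h => by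
    have : LocallyOfFiniteType (pullback.snd f (pullback.fst g j) ≫ pullback.snd g j) :=
      MorphismProperty.of_isPullback (isPullback_snd_fst f g j) ‹_›
    have : QuasiCompact (pullback.snd f (pullback.fst g j) ≫ pullback.snd g j) :=
      MorphismProperty.of_isPullback (isPullback_snd_fst f g j) ‹_›
    rw [← locusMor_preimage hP.1 (IsPullback.of_hasPullback g j)
      (IsPullback.of_hasPullback f (pullback.fst g j))] at h ⊢
    exact hP.2 _ _ h

theorem isLocallyConstructible_locusMor_noetherian {P : ∀ ⦃X Y T : Scheme.{u}⦄, (X ⟶ Y) → (Y ⟶ T) → Prop}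
    (hP : ConsProp.IsConsMor P) (f : X ⟶ Y) (g : Y ⟶ S) [LocallyOfFiniteType g] [QuasiCompact g]
    [LocallyOfFiniteType (f ≫ g)] [QuasiCompact (f ≫ g)] :
    IsLocallyConstructible (ConsProp.locusMor P f g) :=
  isLocallyConstructible_of_integral fun Z j _ _ => by
    have : LocallyOfFiniteType (pullback.snd f (pullback.fst g j) ≫ pullback.snd g j) :=
      MorphismProperty.of_isPullback (isPullback_snd_fst f g j) ‹_›
    have : QuasiCompact (pullback.snd f (pullback.fst g j) ≫ pullback.snd g j) :=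
      MorphismProperty.of_isPullback (isPullback_snd_fst f g j) ‹_›
    rw [← locusMor_preimage hP.1 (IsPullback.of_hasPullback g j)
      (IsPullback.of_hasPullback f (pullback.fst g j))]
    exact hP.2 _ _

end Noetherian

end Groth.Agent.ConsProp93
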