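import Groth.Agent.ConsProp93.DimGeneric
import Groth.Agent.ConsProp93.Locus
import Groth.Agent.TopDim50.Basic

/-! The dimension of fibres is constant over a dense open, and invariant under field extension. -/

set_option autoImplicit false
universe u

open CategoryTheory CategoryTheory.Limits AlgebraicGeometry TopologicalSpace Topology TensorProduct

namespace Groth.Agent.ConsProp93

theorem dim_of_iso {X Y : Scheme.{u}} (e : X ⟶ Y) [IsIso e] :
    topologicalKrullDim X = topologicalKrullDim Y :=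
  IsHomeomorph.topologicalKrullDim_eq _ e.homeomorph.isHomeomorph

/-- The dimension of `X ×_A K` is constant for fields over a dense open of `Spec A`. -/
theorem exists_dim_pullback {A : Type u} [CommRing A] [IsDomain A] {X : Scheme.{u}}
    (w : X ⟶ Spec (CommRingCat.of A)) [LocallyOfFiniteType w] [QuasiCompact w] :
    ∃ (a : A) (d : WithBot ℕ∞), a ≠ 0 ∧ ∀ (K : Type u) [Field K] [Algebra A K], algebraMap A K a ≠ 0 →
      topologicalKrullDim ↥(pullback w (Spec.map (CommRingCat.ofHom (algebraMap A K)))) = d := by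
  classical
  have : CompactSpace X := QuasiCompact.compactSpace_of_compactSpace w
  let 𝒰 := X.affineCover.finiteSubcover
  have : ∀ i, IsAffine (𝒰.X i) := fun i => inferInstanceAs (IsAffine (X.affineCover.X _))
  have key : ∀ i, ∃ (a : A) (d : WithBot ℕ∞), a ≠ 0 ∧ ∀ (K : Type u) [Field K] [Algebra A K],
      algebraMap A K a ≠ 0 →
        topologicalKrullDim ↥(pullback (𝒰.f i ≫ w) (Spec.map (CommRingCat.ofHom (algebraMap A K)))) = d := by
    intro i
    let φ : CommRingCat.of A ⟶ Γ(𝒰.X i, ⊤) := Spec.preimage ((𝒰.X i).isoSpec.inv ≫ 𝒰.f i ≫ w)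
    have hφ : Spec.map φ = (𝒰.X i).isoSpec.inv ≫ 𝒰.f i ≫ w := Spec.map_preimage _
    let : Algebra A Γ(𝒰.X i, ⊤) := φ.hom.toAlgebra
    have : Algebra.FiniteType A Γ(𝒰.X i, ⊤) := by
      have : LocallyOfFiniteType (Spec.map φ) := hφ ▸ inferInstance
      rw [HasRingHomProperty.Spec_iff (P := @LocallyOfFiniteType)] at this
      exact this
    obtain ⟨a, d, ha, hd⟩ := exists_dim_fibre_ring A Γ(𝒰.X i, ⊤)
    refine ⟨a, d, ha, fun K _ _ hK => ?_⟩
    rw [← hd K hK, ← PrimeSpectrum.topologicalKrullDim_eq_ringKrullDim]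
    let t := Spec.map (CommRingCat.ofHom (algebraMap A K))
    let e : pullback (Spec.map (CommRingCat.ofHom (algebraMap A Γ(𝒰.X i, ⊤)))) t ⟶ pullback (𝒰.f i ≫ w) t :=
      pullback.map _ _ _ _ (𝒰.X i).isoSpec.inv (𝟙 _) (𝟙 _)
        (by rw [Category.comp_id]; exact hφ) (by simp)
    rw [← dim_of_iso e]
    exact dim_of_iso ((pullbackSymmetry _ _).hom ≫ (pullbackSpecIso A K Γ(𝒰.X i, ⊤)).hom)
  choose a d ha hd using key
  refine ⟨∏ i, a i, ⨆ i, d i, Finset.prod_ne_zero_iff.mpr fun i _ => ha i, fun K _ _ hK => ?_⟩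
  let t := Spec.map (CommRingCat.ofHom (algebraMap A K))
  let q := pullback.fst w t
  rw [TopDim50.dim_eq_iSup_of_open_cover (fun i => q ⁻¹' Set.range (𝒰.f i))
    (fun i => (𝒰.f i).isOpenEmbedding.isOpen_range.preimage q.continuous)
    (Set.eq_univ_of_forall fun x => Set.mem_iUnion.mpr ⟨_, 𝒰.covers (q x)⟩)]
  refine iSup_congr fun i => ?_
  have hi : algebraMap A K (a i) ≠ 0 := fun h0 => hK (by
    rw [map_prod]; exact Finset.prod_eq_zero (Finset.mem_univ i) h0)
  rw [← hd i K hi]
  let e : pullback (𝒰.f i ≫ w) t ⟶ pullback w t :=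
    pullback.map _ _ _ _ (𝒰.f i) (𝟙 _) (𝟙 _) (by simp) (by simp)
  have he : IsPullback (pullback.fst (𝒰.f i ≫ w) t) e (𝒰.f i) q := by
    refine IsPullback.of_bot ?_ (pullback.lift_fst _ _ _).symm (IsPullback.of_hasPullback w t)
    rw [show e ≫ pullback.snd w t = pullback.snd (𝒰.f i ≫ w) t by
      simp only [e, pullback.map, pullback.lift_snd, Category.comp_id]]
    exact IsPullback.of_hasPullback _ t
  have : IsOpenImmersion e := MorphismProperty.of_isPullback he inferInstance
  have hr : Set.range e = q ⁻¹' Set.range (𝒰.f i) := by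
    rw [← Scheme.Pullback.range_snd, ← he.isoPullback_inv_snd]
    refine Set.Subset.antisymm ?_ ?_
    · rintro _ ⟨x, rfl⟩
      exact ⟨he.isoPullback.hom x, by rw [← Scheme.Hom.comp_apply, Iso.hom_inv_id_assoc]⟩
    · rintro _ ⟨x, rfl⟩
      exact ⟨he.isoPullback.inv x, (Scheme.Hom.comp_apply _ _ _).symm⟩
  exact ((IsHomeomorph.topologicalKrullDim_eq _ e.isOpenEmbedding.isEmbedding.toHomeomorph.isHomeomorph).trans
    (by rw [hr])).symm

theorem isIso_fromSpecResidueField (T : Scheme.{u}) [IsIntegral T] [Subsingleton T] (t : T) :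
    IsIso (T.fromSpecResidueField t) := by
  have : IsClosedImmersion (T.fromSpecResidueField t) :=
    .of_isPreimmersion _ (isClosed_discrete _)
  have : Surjective (T.fromSpecResidueField t) := surjective_of_subsingleton _
  exact isIso_of_isClosedImmersion_of_surjective _

theorem isFieldStable_dim (Φ : Set (WithBot ℕ∞)) :
    ConsProp.IsFieldStable.{u} (fun Y T g => topologicalKrullDim ↥Y ∈ Φ) := by
  intro Y Y' T T' g g' e h _ _ _ _ _ _ hsq
  obtain ⟨z⟩ : Nonempty T := inferInstance
  obtain ⟨z'⟩ : Nonempty T' := inferInstance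
  have := isIso_fromSpecResidueField T z
  have := isIso_fromSpecResidueField T' z'
  let k : Type u := T.residueField z
  let k' : Type u := T'.residueField z'
  let φ : T.residueField z ⟶ T'.residueField z' :=
    Spec.preimage (T'.fromSpecResidueField z' ≫ h ≫ inv (T.fromSpecResidueField z))
  let w : Y ⟶ Spec (CommRingCat.of k) := g ≫ inv (T.fromSpecResidueField z)
  have : LocallyOfFiniteType w := inferInstanceAs (LocallyOfFiniteType (g ≫ inv _))
  have : QuasiCompact w := inferInstanceAs (QuasiCompact (g ≫ inv _))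
  obtain ⟨a, d, ha, hd⟩ := exists_dim_pullback w
  let : Algebra k k' := φ.hom.toAlgebra
  have h1 : topologicalKrullDim ↥Y = d := by
    rw [← hd k (by simpa using ha)]
    have : IsIso (Spec.map (CommRingCat.ofHom (algebraMap k k))) := by
      show IsIso (Spec.map (𝟙 (CommRingCat.of k))); infer_instance
    exact (dim_of_iso (pullback.fst w _)).symm
  have h2 : topologicalKrullDim ↥Y' = d := by
    rw [← hd k' ((map_ne_zero_iff _ (algebraMap k k').injective).mpr ha)]
    have hφ : Spec.map φ = T'.fromSpecResidueField z' ≫ h ≫ inv (T.fromSpecResidueField z) :=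
      Spec.map_preimage _
    have hsq' : IsPullback e (g' ≫ inv (T'.fromSpecResidueField z')) w (Spec.map φ) :=
      hsq.of_iso (Iso.refl _) (Iso.refl _) (asIso (inv (T'.fromSpecResidueField z')))
        (asIso (inv (T.fromSpecResidueField z))) (by simp) (by simp) (by simp [w]) (by simp [hφ])
    exact dim_of_iso hsq'.isoPullback.hom
  show topologicalKrullDim ↥Y ∈ Φ ↔ topologicalKrullDim ↥Y' ∈ Φ
  rw [h1, h2]

theorem isCons_dim (Φ : Set (WithBot ℕ∞)) :
    ConsProp.IsCons.{u} (fun Y T g => topologicalKrullDim ↥Y ∈ Φ) := by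
  refine ⟨isFieldStable_dim Φ, ?_⟩
  intro X S u _ _ _ _
  obtain ⟨_, ⟨U, hU, rfl⟩, hηU, -⟩ :=
    S.isBasis_affineOpens.exists_subset_of_mem_open (Set.mem_univ (genericPoint S)) isOpen_univ
  replace hU : IsAffineOpen U := hU
  have : Nonempty U := ⟨⟨_, hηU⟩⟩
  obtain ⟨a, d, ha, hd⟩ := exists_dim_pullback (A := Γ(S, U)) (pullback.snd u hU.fromSpec)
  let O : Set (Spec Γ(S, U)) := (PrimeSpectrum.basicOpen a : Set (PrimeSpectrum Γ(S, U)))
  have hO : IsOpen O := (PrimeSpectrum.basicOpen a).2
  have hOne : (hU.fromSpec '' O).Nonempty := Set.Nonempty.image _ ⟨(⊥ : PrimeSpectrum Γ(S, U)), fun h => ha h⟩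
  have key : ∀ p ∈ O, topologicalKrullDim ↥(u.fiber (hU.fromSpec p)) = d := by
    intro p hp
    let q : PrimeSpectrum Γ(S, U) := p
    let K := q.asIdeal.ResidueField
    have hp' : algebraMap Γ(S, U) K a ≠ 0 := by
      rw [ne_eq, Ideal.algebraMap_residueField_eq_zero]; exact hp
    rw [← hd K hp']
    let t := Spec.map (CommRingCat.ofHom (algebraMap Γ(S, U) K))
    have ht : ∀ x, t x = p := fun x => PrimeSpectrum.ext (by
      show Ideal.comap (algebraMap Γ(S, U) K) x.asIdeal = q.asIdeal
      have : x.asIdeal.IsPrime := x.isPrime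
      rw [show x.asIdeal = ⊥ from Ideal.eq_bot_of_prime _, ← RingHom.ker_eq_comap_bot,
        Ideal.ker_algebraMap_residueField])
    have h1 : IsPullback (pullback.fst (pullback.snd u hU.fromSpec) t ≫ pullback.fst u hU.fromSpec)
        (pullback.snd (pullback.snd u hU.fromSpec) t) u (t ≫ hU.fromSpec) :=
      (IsPullback.of_hasPullback _ t).paste_horiz (IsPullback.of_hasPullback u hU.fromSpec)
    obtain ⟨w⟩ : Nonempty ↥(Spec (CommRingCat.of K)) := inferInstance
    have e : (t ≫ hU.fromSpec) w = hU.fromSpec p := by rw [Scheme.Hom.comp_apply, ht]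
    have hst : topologicalKrullDim ↥((pullback.snd (pullback.snd u hU.fromSpec) t).fiber w) =
        topologicalKrullDim ↥(pullback (pullback.snd u hU.fromSpec) t) := by
      have := isIso_fromSpecResidueField _ w
      have : IsIso ((pullback.snd (pullback.snd u hU.fromSpec) t).fiberι w) :=
        inferInstanceAs (IsIso (pullback.fst (pullback.snd (pullback.snd u hU.fromSpec) t) _))
      exact dim_of_iso ((pullback.snd (pullback.snd u hU.fromSpec) t).fiberι w)
    rw [← hst]
    have hP := isFieldStable_dim {topologicalKrullDim ↥(u.fiber (hU.fromSpec p))}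
    have hmem : w ∈ (t ≫ hU.fromSpec) ⁻¹' ConsProp.locus (fun Y T g => topologicalKrullDim ↥Y ∈
        ({topologicalKrullDim ↥(u.fiber (hU.fromSpec p))} : Set (WithBot ℕ∞))) u := by
      show topologicalKrullDim ↥(u.fiber ((t ≫ hU.fromSpec) w)) = topologicalKrullDim ↥(u.fiber (hU.fromSpec p))
      rw [e]
    exact ((locus_preimage hP h1).ge hmem).symm
  have hsub : hU.fromSpec '' O ⊆ {s | topologicalKrullDim ↥(u.fiber s) = d} := by
    rintro _ ⟨p, hp, rfl⟩; exact key p hp
  have hopen : IsOpen (hU.fromSpec '' O) := hU.fromSpec.isOpenEmbedding.isOpenMap O hO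
  by_cases h : d ∈ Φ
  · refine .inl (hOne.mono (hopen.subset_interior_iff.mpr fun s hs => ?_))
    show topologicalKrullDim ↥(u.fiber s) ∈ Φ
    rw [hsub hs]; exact h
  · refine .inr (hOne.mono (hopen.subset_interior_iff.mpr fun s hs (hs' : topologicalKrullDim ↥(u.fiber s) ∈ Φ) => h ?_))
    rwa [hsub hs] at hs'

end Groth.Agent.ConsProp93
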