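import Groth.Agent.ConsProp93.Basic
import Mathlib.AlgebraicGeometry.FunctionField

/-! A criterion for (ind-)constructibility on a locally Noetherian scheme, and fibres of base changes. -/

set_option autoImplicit false
universe u

open CategoryTheory CategoryTheory.Limits AlgebraicGeometry TopologicalSpace Topology

namespace Groth.Agent.ConsProp93

/-- Around every point there is an integral Noetherian scheme mapping onto the part near the point of
its closure, with the generic point sent to the point. -/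
theorem exists_integral_nhd {S : Scheme.{u}} [IsLocallyNoetherian S] (x : S) :
    ∃ (Z : Scheme.{u}) (j : Z ⟶ S) (_ : IsIntegral Z), IsNoetherian Z ∧ j (genericPoint Z) = x ∧
      IsInducing j ∧ ∃ U : Set S, IsOpen U ∧ x ∈ U ∧ U ∩ closure {x} ⊆ Set.range j := by
  obtain ⟨_, ⟨U, hU, rfl⟩, hxU, -⟩ :=
    S.isBasis_affineOpens.exists_subset_of_mem_open (Set.mem_univ x) isOpen_univ
  replace hU : IsAffineOpen U := hU
  have : IsNoetherianRing Γ(S, U) := IsLocallyNoetherian.component_noetherian ⟨U, hU⟩
  let p := hU.primeIdealOf ⟨x, hxU⟩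
  let A' := CommRingCat.of (Γ(S, U) ⧸ p.asIdeal)
  have : IsDomain A' := inferInstanceAs (IsDomain (Γ(S, U) ⧸ p.asIdeal))
  have : IsNoetherianRing A' := inferInstanceAs (IsNoetherianRing (Γ(S, U) ⧸ p.asIdeal))
  let q : Γ(S, U) ⟶ A' := CommRingCat.ofHom (Ideal.Quotient.mk p.asIdeal)
  have : IsClosedImmersion (Spec.map q) :=
    IsClosedImmersion.spec_of_surjective q Ideal.Quotient.mk_surjective
  refine ⟨Spec A', Spec.map q ≫ hU.fromSpec, inferInstance, { }, ?_, ?_, U, U.2, hxU, ?_⟩
  · rw [genericPoint_eq_bot_of_affine]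
    have e : Spec.map q (⊥ : PrimeSpectrum A') = p := PrimeSpectrum.ext (by
      show Ideal.comap (Ideal.Quotient.mk p.asIdeal) ⊥ = p.asIdeal
      rw [← RingHom.ker_eq_comap_bot, Ideal.mk_ker])
    exact (Scheme.Hom.comp_apply _ _ _).trans <| (congrArg hU.fromSpec e).trans (hU.fromSpec_primeIdealOf ⟨x, hxU⟩)
  · exact (Spec.map q ≫ hU.fromSpec).isEmbedding.isInducing
  · rintro y ⟨hyU, hy⟩
    obtain ⟨z, rfl⟩ : y ∈ Set.range hU.fromSpec := by rw [hU.range_fromSpec]; exact hyU
    have hle : p ⤳ z := hU.fromSpec.isOpenEmbedding.isInducing.specializes_iff.mp (by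
      rw [hU.fromSpec_primeIdealOf ⟨x, hxU⟩]
      exact specializes_iff_mem_closure.mpr hy)
    obtain ⟨w, hw⟩ : z ∈ Set.range (Spec.map q) := by
      show z ∈ Set.range (PrimeSpectrum.comap (Ideal.Quotient.mk p.asIdeal))
      rw [range_comap_of_surjective _ _ Ideal.Quotient.mk_surjective, Ideal.mk_ker]
      exact (PrimeSpectrum.le_iff_specializes p z).mpr hle
    exact ⟨w, by rw [Scheme.Hom.comp_apply, hw]⟩

/-- A set containing a nonempty open of every integral test scheme whose generic point it contains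
is ind-constructible. -/
theorem isIndConstructible_of_integral {S : Scheme.{u}} [IsLocallyNoetherian S] {E : Set S}
    (H : ∀ (Z : Scheme.{u}) (j : Z ⟶ S) [IsIntegral Z] [IsNoetherian Z],
      genericPoint Z ∈ j ⁻¹' E → (interior (j ⁻¹' E)).Nonempty) :
    ProCons.IsIndConstructible E := by
  refine ConsPts12.isIndConstructible_of_nhds fun x hx => ?_
  obtain ⟨Z, j, _, _, hj, hind, U, hU, hxU, hUr⟩ := exists_integral_nhd x
  have hη : genericPoint Z ∈ interior (j ⁻¹' E) :=
    (genericPoint_spec Z).mem_open_set_iff isOpen_interior |>.mpr (by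
      simpa using H Z j (by rw [Set.mem_preimage, hj]; exact hx))
  obtain ⟨O, hO, hOE⟩ := hind.isOpen_iff.mp (isOpen_interior (s := j ⁻¹' E))
  refine ⟨O ∩ U, hO.inter hU, ⟨?_, hxU⟩, fun y hy => ?_⟩
  · rw [← hj]; exact hOE.ge hη
  · obtain ⟨z, rfl⟩ := hUr ⟨hy.1.2, hy.2⟩
    exact interior_subset (s := j ⁻¹' E) (hOE.le hy.1.1)

/-- A set which, on every integral test scheme, contains a nonempty open or misses one is locally
constructible. -/
theorem isLocallyConstructible_of_integral {S : Scheme.{u}} [IsLocallyNoetherian S] {E : Set S}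
    (H : ∀ (Z : Scheme.{u}) (j : Z ⟶ S) [IsIntegral Z] [IsNoetherian Z],
      (interior (j ⁻¹' E)).Nonempty ∨ (interior (j ⁻¹' E)ᶜ).Nonempty) :
    IsLocallyConstructible E := by
  have key : ∀ (F : Set S), (∀ (Z : Scheme.{u}) (j : Z ⟶ S) [IsIntegral Z] [IsNoetherian Z],
      (interior (j ⁻¹' F)).Nonempty ∨ (interior (j ⁻¹' F)ᶜ).Nonempty) →
      ProCons.IsIndConstructible F := fun F hF => isIndConstructible_of_integral fun Z j _ _ hη =>
    (hF Z j).resolve_right fun hne => by
      have := ((genericPoint_spec Z).mem_open_set_iff isOpen_interior).mpr (by rw [Set.univ_inter]; exact hne)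
      exact interior_subset this hη
  refine ConsPts12.isLocallyConstructible_iff.mpr ⟨key E H, ?_⟩
  have h := ConsPts12.isIndConstructible_iff.mp (key Eᶜ fun Z j _ _ => by
    have := (H Z j).symm
    rw [← compl_compl (j ⁻¹' E)] at this
    simpa [Set.preimage_compl] using this)
  rw [compl_compl] at h
  exact ConsPts12.isProConstructible_iff.mpr h

/-- The fibre of a base change is a base change of the fibre. -/
theorem exists_isPullback_fiber {P X Y' Y : Scheme.{u}} {fst : P ⟶ X} {snd : P ⟶ Y'} {f : X ⟶ Y}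
    {g : Y' ⟶ Y} (h : IsPullback fst snd f g) (y' : Y') :
    ∃ m : snd.fiber y' ⟶ f.fiber (g y'), m ≫ f.fiberι (g y') = snd.fiberι y' ≫ fst ∧
      IsPullback m (snd.fiberToSpecResidueField y') (f.fiberToSpecResidueField (g y'))
        (Spec.map (g.residueFieldMap y')) := by
  let m : snd.fiber y' ⟶ f.fiber (g y') := pullback.lift (snd.fiberι y' ≫ fst)
    (snd.fiberToSpecResidueField y' ≫ Spec.map (g.residueFieldMap y')) (by
      show (pullback.fst _ _ ≫ fst) ≫ f = (pullback.snd _ _ ≫ _) ≫ _
      rw [Category.assoc, Category.assoc, h.w, pullback.condition_assoc,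
        Scheme.Hom.SpecMap_residueFieldMap_fromSpecResidueField])
  refine ⟨m, pullback.lift_fst _ _ _, ?_⟩
  refine IsPullback.of_right ?_ (pullback.lift_snd _ _ _) (IsPullback.of_hasPullback f _)
  erw [pullback.lift_fst, Scheme.Hom.SpecMap_residueFieldMap_fromSpecResidueField]
  exact (IsPullback.of_hasPullback snd (Y'.fromSpecResidueField y')).paste_horiz h

theorem isPullback_fiberMap {X Y S : Scheme.{u}} (f : X ⟶ Y) (g : Y ⟶ S) (s : S) :
    IsPullback ((f ≫ g).fiberι s) (MoreMor.fiberMap f g s) f (g.fiberι s) :=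
  Cons62.isPullback_lift f g (S.fromSpecResidueField s)

instance {X S : Scheme.{u}} (u : X ⟶ S) [LocallyOfFiniteType u] (s : S) :
    LocallyOfFiniteType (u.fiberToSpecResidueField s) :=
  inferInstanceAs (LocallyOfFiniteType (pullback.snd _ _))

instance {X S : Scheme.{u}} (u : X ⟶ S) [QuasiCompact u] (s : S) :
    QuasiCompact (u.fiberToSpecResidueField s) :=
  inferInstanceAs (QuasiCompact (pullback.snd _ _))

end Groth.Agent.ConsProp93
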