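import Groth.Agent.ConsProp93.Locus
import Groth.Agent.Approx60.ImmStage
import Groth.Agent.LimTop61.FPDescend
import Groth.Agent.LimTop61.BaseChange
import Groth.Agent.LimTop61.Cons
import Groth.Agent.ConsPts12.Cons
import Groth.Agent.SpPts86.LocConstr
import Groth.Agent.SpPts86.LocPMore

/-! Loci of constructible properties over an arbitrary base, by Noetherian approximation. -/

set_option autoImplicit false
set_option backward.isDefEq.respectTransparency false
set_option backward.defeqAttrib.useBackward true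
universe u

open CategoryTheory CategoryTheory.Limits AlgebraicGeometry TopologicalSpace Topology

namespace Groth.Agent.ConsProp93

open LimTop61

theorem isIndConstructible_preimage {X Y : Scheme.{u}} (f : X ⟶ Y) {E : Set Y}
    (hE : ProCons.IsIndConstructible E) : ProCons.IsIndConstructible (f ⁻¹' E) :=
  ConsPts12.isIndConstructible_iff.mpr ((ConsPts12.isIndConstructible_iff.mp hE).preimage f)

theorem isIndConstructible_of_affine {S : Scheme.{u}} {E : Set S}
    (h : ∀ W : S.Opens, IsAffineOpen W → ProCons.IsIndConstructible (W.ι ⁻¹' E)) :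
    ProCons.IsIndConstructible E := by
  refine ConsPts12.isIndConstructible_iff.mpr (isConsClosed_of_local fun x => ?_)
  obtain ⟨_, ⟨W, hW, rfl⟩, hxW, -⟩ :=
    S.isBasis_affineOpens.exists_subset_of_mem_open (Set.mem_univ x) isOpen_univ
  replace hW : IsAffineOpen W := hW
  have : IsAffine (W : Scheme.{u}) := hW
  have h1 := ConsPts12.isIndConstructible_iff.mp (h W hW) ⊤ (isAffineOpen_top _)
  have : IsAffine ((⊤ : (W : Scheme.{u}).Opens) : Scheme.{u}) := isAffineOpen_top _
  have h2 := @IsClosed.preimage _ _ (constructibleTopology (W : Scheme.{u}))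
    (constructibleTopology ((⊤ : (W : Scheme.{u}).Opens) : Scheme.{u})) _
    (continuous_cons_of_hom (W : Scheme.{u}).topIso.inv) _ h1
  refine ⟨W, hxW, hW, ?_⟩
  convert h2 using 1
  ext z
  simp only [Set.mem_preimage, Set.mem_compl_iff, ← Scheme.Hom.comp_apply]
  rw [← Scheme.topIso_hom, Iso.inv_hom_id, Category.id_comp]

theorem isLocallyConstructible_of_affine {S : Scheme.{u}} {E : Set S}
    (h : ∀ W : S.Opens, IsAffineOpen W → IsLocallyConstructible (W.ι ⁻¹' E)) :
    IsLocallyConstructible E :=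
  IsLocallyConstructible.of_isOpenCover (U := fun W : S.affineOpens => W.1)
    (IsOpenCover.mk (top_le_iff.mp fun x _ => by
      obtain ⟨_, ⟨W, hW, rfl⟩, hx, -⟩ :=
        S.isBasis_affineOpens.exists_subset_of_mem_open (Set.mem_univ x) isOpen_univ
      exact Opens.mem_iSup.mpr ⟨⟨W, hW⟩, hx⟩))
    fun W => h W.1 W.2

/-- Comparison of two base changes of the same morphism. -/
theorem exists_isPullback_of_fac {X X₀ Xj S S₀ Sj : Scheme.{u}} {q : X ⟶ X₀} {u : X ⟶ S}
    {u₀ : X₀ ⟶ S₀} {a : S ⟶ S₀} (h : IsPullback q u u₀ a) {p : Xj ⟶ X₀} {uj : Xj ⟶ Sj}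
    {b : Sj ⟶ S₀} (hj : IsPullback p uj u₀ b) (k : S ⟶ Sj) (w : k ≫ b = a) :
    ∃ e : X ⟶ Xj, e ≫ p = q ∧ IsPullback e u uj k :=
  ⟨hj.lift q (u ≫ k) (by rw [Category.assoc, w, h.w]), hj.lift_fst _ _ _,
    IsPullback.of_right (by rw [hj.lift_fst, w]; exact h) (hj.lift_snd _ _ _) hj⟩

theorem locusMod_congr {P : ∀ ⦃Y T : Scheme.{u}⦄, (Y ⟶ T) → Y.Modules → Prop}
    (hP : ConsProp.IsFieldStableMod P) {X S : Scheme.{u}} (u : X ⟶ S) [LocallyOfFiniteType u]
    [QuasiCompact u] {F F' : X.Modules} (hF : Coh.IsCoh F) (i : F' ≅ F) :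
    ConsProp.locusMod P u F = ConsProp.locusMod P u F' := by
  ext s
  exact hP (u.fiberToSpecResidueField s) (u.fiberToSpecResidueField s) (𝟙 _) (𝟙 _)
    (IsPullback.of_horiz_isIso ⟨by simp⟩) _ _ (isCoh_pullback _ hF)
    ((Scheme.Modules.pullback (u.fiberι s)).mapIso i ≪≫
      ((Scheme.Modules.pullbackId _).app _).symm)

theorem isCoh_of_isFP {X : Scheme.{u}} {F : X.Modules} (hq : Coh.IsQCoh F) (hF : CohB1.IsFP F) :
    Coh.IsCoh F :=
  ⟨hq, have := hF; SheafOfModules.instIsFiniteTypeOfIsFinitePresentation F⟩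

section Model

variable {X Y S : Scheme.{u}} [CompactSpace S] [QuasiSeparatedSpace S]

/-- A finitely presented scheme with a module over a qcqs base comes from a Noetherian base. -/
theorem exists_model_mod (u : X ⟶ S) [LocallyOfFinitePresentation u] [QuasiCompact u] [QuasiSeparated u]
    (F : X.Modules) [F.IsQuasicoherent] [CohB1.IsFP F] :
    ∃ (S' : Scheme.{u}) (_ : IsLocallyNoetherian S') (π : S ⟶ S') (X' : Scheme.{u}) (u' : X' ⟶ S')
      (_ : LocallyOfFiniteType u') (_ : QuasiCompact u') (e : X ⟶ X') (F' : X'.Modules),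
      IsPullback e u u' π ∧ Coh.IsCoh F' ∧ Nonempty ((Scheme.Modules.pullback e).obj F' ≅ F) := by
  obtain ⟨J, _, _, D, π, hD, ⟨hc⟩⟩ := Approx60.exists_approximation S
  have := hD.aff
  have := hD.compact
  have hln := fun i => @Approx60.isLocallyNoetherian_of_lft_toZ _ (hD.lft i)
  obtain ⟨i, Xi, fi, g, hlfp, hqc, hqs, hg⟩ := Approx60.S0591 D _ hc X u
  have : CompactSpace Xi := QuasiCompact.compactSpace_of_compactSpace fi
  have : QuasiSeparatedSpace Xi := quasiSeparatedSpace_of_quasiSeparated fi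
  let c' := bcCone D (Cone.mk S π) fi g u hg.w
  obtain ⟨j, -, Fj, hq, hfp, ⟨e⟩⟩ := exists_fp_descend (D := bcDiagram D fi) (c := c')
    (i₀ := Over.mk (𝟙 i)) (isLimitBcCone D _ hc fi g u hg) F
  refine ⟨D.obj j.left, hln _, π.app j.left, pullback fi (D.map j.hom), pullback.snd _ _,
    inferInstance, inferInstance, c'.π.app j, Fj, ?_, isCoh_of_isFP hq hfp, ⟨e⟩⟩
  refine IsPullback.of_right ?_ ?_ (IsPullback.of_hasPullback fi (D.map j.hom))
  · convert hg using 1
    · simp [c']
    · exact (Cone.mk S π).w j.hom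
  · simp [c']

/-- A morphism of finitely presented schemes over a qcqs base comes from a Noetherian base. -/
theorem exists_model_mor (f : X ⟶ Y) (g : Y ⟶ S)
    [LocallyOfFinitePresentation g] [QuasiCompact g] [QuasiSeparated g]
    [LocallyOfFinitePresentation (f ≫ g)] [QuasiCompact (f ≫ g)] [QuasiSeparated (f ≫ g)] :
    ∃ (S' : Scheme.{u}) (_ : IsLocallyNoetherian S') (π : S ⟶ S') (X' Y' : Scheme.{u}) (f' : X' ⟶ Y')
      (g' : Y' ⟶ S') (_ : LocallyOfFiniteType g') (_ : QuasiCompact g')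
      (_ : LocallyOfFiniteType (f' ≫ g')) (_ : QuasiCompact (f' ≫ g')) (eY : Y ⟶ Y') (eX : X ⟶ X'),
      IsPullback eY g g' π ∧ IsPullback eX f f' eY := by
  obtain ⟨J, _, _, D, π, hD, ⟨hc⟩⟩ := Approx60.exists_approximation S
  have := hD.aff
  have := hD.compact
  have hln := fun i => @Approx60.isLocallyNoetherian_of_lft_toZ _ (hD.lft i)
  obtain ⟨i, Yi, gi, e, hlfp, hqc, hqs, he⟩ := Approx60.S0591 D _ hc Y g
  have : CompactSpace Yi := QuasiCompact.compactSpace_of_compactSpace gi
  have : QuasiSeparatedSpace Yi := quasiSeparatedSpace_of_quasiSeparated gi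
  have : LocallyOfFinitePresentation f := SpPts86.lfp_of_comp f g
  have : QuasiCompact f := QuasiCompact.of_comp f g
  have : QuasiSeparated f := QuasiSeparated.of_comp f g
  let c' := bcCone D (Cone.mk S π) gi e g he.w
  obtain ⟨j, Xj, fj, eX, hl, hq, hs, hX⟩ := Approx60.S0591 (bcDiagram D gi) c'
    (isLimitBcCone D _ hc gi e g he) X f
  refine ⟨D.obj j.left, hln _, π.app j.left, Xj, pullback gi (D.map j.hom), fj, pullback.snd _ _,
    inferInstance, inferInstance, inferInstance, inferInstance, c'.π.app j, eX, ?_, hX⟩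
  refine IsPullback.of_right ?_ ?_ (IsPullback.of_hasPullback gi (D.map j.hom))
  · convert he using 1
    · simp [c']
    · exact (Cone.mk S π).w j.hom
  · simp [c']

/-- A pair of finitely presented schemes over a qcqs base comes from a Noetherian base. -/
theorem exists_model_pair (u : X ⟶ S) (v : Y ⟶ S)
    [LocallyOfFinitePresentation u] [QuasiCompact u] [QuasiSeparated u]
    [LocallyOfFinitePresentation v] [QuasiCompact v] [QuasiSeparated v] :
    ∃ (S' : Scheme.{u}) (_ : IsLocallyNoetherian S') (π : S ⟶ S') (X' Y' : Scheme.{u}) (u' : X' ⟶ S')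
      (v' : Y' ⟶ S') (_ : LocallyOfFiniteType u') (_ : QuasiCompact u')
      (_ : LocallyOfFiniteType v') (_ : QuasiCompact v') (eX : X ⟶ X') (eY : Y ⟶ Y'),
      IsPullback eX u u' π ∧ IsPullback eY v v' π := by
  obtain ⟨J, _, _, D, π, hD, ⟨hc⟩⟩ := Approx60.exists_approximation S
  have := hD.aff
  have := hD.compact
  have hln := fun i => @Approx60.isLocallyNoetherian_of_lft_toZ _ (hD.lft i)
  obtain ⟨i, Xi, ui, e, _, _, _, he⟩ := Approx60.S0591 D _ hc X u
  obtain ⟨i', Yi, vi, e', _, _, _, he'⟩ := Approx60.S0591 D _ hc Y v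
  obtain ⟨k, a, b, -⟩ := IsCofilteredOrEmpty.cone_objs i i'
  obtain ⟨eX, -, hX⟩ := exists_isPullback_of_fac he (IsPullback.of_hasPullback ui (D.map a))
    (π.app k) ((Cone.mk S π).w a)
  obtain ⟨eY, -, hY⟩ := exists_isPullback_of_fac he' (IsPullback.of_hasPullback vi (D.map b))
    (π.app k) ((Cone.mk S π).w b)
  exact ⟨D.obj k, hln _, π.app k, _, _, _, _, inferInstance, inferInstance, inferInstance,
    inferInstance, eX, eY, hX, hY⟩

end Model

section Locus

variable {X Y S : Scheme.{u}}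

theorem isCoh_pullback_fp {X Y : Scheme.{u}} (f : Y ⟶ X) (F : X.Modules) [F.IsQuasicoherent]
    [CohB1.IsFP F] : Coh.IsCoh ((Scheme.Modules.pullback f).obj F) :=
  isCoh_of_isFP (QCPull72.isQuasicoherent_pullback f F) (LimTop61.isFP_pullback f F)

theorem exists_affine_model_mod {P : ∀ ⦃Y T : Scheme.{u}⦄, (Y ⟶ T) → Y.Modules → Prop}
    (hP : ConsProp.IsFieldStableMod P) (u : X ⟶ S)
    [LocallyOfFinitePresentation u] [QuasiCompact u] [QuasiSeparated u]
    (F : X.Modules) [F.IsQuasicoherent] [CohB1.IsFP F] (W : S.Opens) (hW : IsAffineOpen W) :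
    ∃ (S' : Scheme.{u}) (_ : IsLocallyNoetherian S') (π : (W : Scheme.{u}) ⟶ S') (X' : Scheme.{u})
      (u' : X' ⟶ S') (_ : LocallyOfFiniteType u') (_ : QuasiCompact u') (F' : X'.Modules),
      Coh.IsCoh F' ∧ W.ι ⁻¹' ConsProp.locusMod P u F = π ⁻¹' ConsProp.locusMod P u' F' := by
  have : IsAffine (W : Scheme.{u}) := hW
  have := QCPull72.isQuasicoherent_pullback (pullback.fst u W.ι) F
  have := LimTop61.isFP_pullback (pullback.fst u W.ι) F
  obtain ⟨S', hS', π, X', u', hl, hq, e, F', he, hF', ⟨i⟩⟩ :=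
    exists_model_mod (pullback.snd u W.ι) ((Scheme.Modules.pullback (pullback.fst u W.ι)).obj F)
  refine ⟨S', hS', π, X', u', hl, hq, F', hF', ?_⟩
  rw [← locusMod_preimage hP (IsPullback.of_hasPullback u W.ι) F (isCoh_of_isFP ‹_› ‹_›),
    ← locusMod_preimage hP he F' hF']
  exact locusMod_congr hP _ (isCoh_pullback_fp _ F) i

theorem exists_affine_model_mor {P : ∀ ⦃X Y T : Scheme.{u}⦄, (X ⟶ Y) → (Y ⟶ T) → Prop}
    (hP : ConsProp.IsFieldStableMor P) (f : X ⟶ Y) (g : Y ⟶ S)
    [LocallyOfFinitePresentation g] [QuasiCompact g] [QuasiSeparated g]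
    [LocallyOfFinitePresentation (f ≫ g)] [QuasiCompact (f ≫ g)] [QuasiSeparated (f ≫ g)]
    (W : S.Opens) (hW : IsAffineOpen W) :
    ∃ (S' : Scheme.{u}) (_ : IsLocallyNoetherian S') (π : (W : Scheme.{u}) ⟶ S') (X' Y' : Scheme.{u})
      (f' : X' ⟶ Y') (g' : Y' ⟶ S') (_ : LocallyOfFiniteType g') (_ : QuasiCompact g')
      (_ : LocallyOfFiniteType (f' ≫ g')) (_ : QuasiCompact (f' ≫ g')),
      W.ι ⁻¹' ConsProp.locusMor P f g = π ⁻¹' ConsProp.locusMor P f' g' := by
  have : IsAffine (W : Scheme.{u}) := hW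
  have hsq : IsPullback (pullback.fst f (pullback.fst g W.ι))
      (pullback.snd f (pullback.fst g W.ι) ≫ pullback.snd g W.ι) (f ≫ g) W.ι :=
    (IsPullback.of_hasPullback f (pullback.fst g W.ι)).paste_vert (IsPullback.of_hasPullback g W.ι)
  let gW := pullback.snd g W.ι
  let fW := pullback.snd f (pullback.fst g W.ι)
  have : LocallyOfFinitePresentation (fW ≫ gW) :=
    MorphismProperty.of_isPullback hsq ‹_›
  have : QuasiCompact (fW ≫ gW) :=
    MorphismProperty.of_isPullback hsq ‹_›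
  have : QuasiSeparated (fW ≫ gW) :=
    MorphismProperty.of_isPullback hsq ‹_›
  obtain ⟨S', hS', π, X', Y', f', g', h1, h2, h3, h4, eY, eX, hY, hX⟩ := exists_model_mor fW gW
  refine ⟨S', hS', π, X', Y', f', g', h1, h2, h3, h4, ?_⟩
  rw [← locusMor_preimage hP (IsPullback.of_hasPullback g W.ι)
    (IsPullback.of_hasPullback f (pullback.fst g W.ι)), ← locusMor_preimage hP hY hX]

theorem exists_affine_model_pair {P : ∀ ⦃X Y T : Scheme.{u}⦄, (X ⟶ T) → (Y ⟶ T) → Prop}
    (hP : ConsPropPair.IsFieldStablePair P) (u : X ⟶ S) (v : Y ⟶ S)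
    [LocallyOfFinitePresentation u] [QuasiCompact u] [QuasiSeparated u]
    [LocallyOfFinitePresentation v] [QuasiCompact v] [QuasiSeparated v]
    (W : S.Opens) (hW : IsAffineOpen W) :
    ∃ (S' : Scheme.{u}) (_ : IsLocallyNoetherian S') (π : (W : Scheme.{u}) ⟶ S') (X' Y' : Scheme.{u})
      (u' : X' ⟶ S') (v' : Y' ⟶ S') (_ : LocallyOfFiniteType u') (_ : QuasiCompact u')
      (_ : LocallyOfFiniteType v') (_ : QuasiCompact v'),
      W.ι ⁻¹' ConsPropPair.locusPair P u v = π ⁻¹' ConsPropPair.locusPair P u' v' := by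
  have : IsAffine (W : Scheme.{u}) := hW
  obtain ⟨S', hS', π, X', Y', u', v', h1, h2, h3, h4, eX, eY, hX, hY⟩ :=
    exists_model_pair (pullback.snd u W.ι) (pullback.snd v W.ι)
  refine ⟨S', hS', π, X', Y', u', v', h1, h2, h3, h4, ?_⟩
  rw [← locusPair_preimage hP (IsPullback.of_hasPullback u W.ι) (IsPullback.of_hasPullback v W.ι),
    ← locusPair_preimage hP hX hY]

theorem isLocallyConstructible_locusMod {P : ∀ ⦃Y T : Scheme.{u}⦄, (Y ⟶ T) → Y.Modules → Prop}
    (hP : ConsProp.IsConsMod P) (u : X ⟶ S)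
    [LocallyOfFinitePresentation u] [QuasiCompact u] [QuasiSeparated u]
    (F : X.Modules) [F.IsQuasicoherent] [CohB1.IsFP F] :
    IsLocallyConstructible (ConsProp.locusMod P u F) :=
  isLocallyConstructible_of_affine fun W hW => by
    obtain ⟨S', _, π, X', u', _, _, F', hF', e⟩ := exists_affine_model_mod hP.1 u F W hW
    rw [e]
    exact SpPts86.isLocallyConstructible_preimage π (isLocallyConstructible_locusMod_noetherian hP u' F' hF')

theorem isIndConstructible_locusMod {P : ∀ ⦃Y T : Scheme.{u}⦄, (Y ⟶ T) → Y.Modules → Prop}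
    (hP : ConsProp.IsIndConsMod P) (u : X ⟶ S)
    [LocallyOfFinitePresentation u] [QuasiCompact u] [QuasiSeparated u]
    (F : X.Modules) [F.IsQuasicoherent] [CohB1.IsFP F] :
    ProCons.IsIndConstructible (ConsProp.locusMod P u F) :=
  isIndConstructible_of_affine fun W hW => by
    obtain ⟨S', _, π, X', u', _, _, F', hF', e⟩ := exists_affine_model_mod hP.1 u F W hW
    rw [e]
    exact isIndConstructible_preimage π (isIndConstructible_locusMod_noetherian hP u' F' hF')

theorem isLocallyConstructible_locusMor {P : ∀ ⦃X Y T : Scheme.{u}⦄, (X ⟶ Y) → (Y ⟶ T) → Prop}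
    (hP : ConsProp.IsConsMor P) (f : X ⟶ Y) (g : Y ⟶ S)
    [LocallyOfFinitePresentation g] [QuasiCompact g] [QuasiSeparated g]
    [LocallyOfFinitePresentation (f ≫ g)] [QuasiCompact (f ≫ g)] [QuasiSeparated (f ≫ g)] :
    IsLocallyConstructible (ConsProp.locusMor P f g) :=
  isLocallyConstructible_of_affine fun W hW => by
    obtain ⟨S', _, π, X', Y', f', g', _, _, _, _, e⟩ := exists_affine_model_mor hP.1 f g W hW
    rw [e]
    exact SpPts86.isLocallyConstructible_preimage π (isLocallyConstructible_locusMor_noetherian hP f' g')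

theorem isIndConstructible_locusMor {P : ∀ ⦃X Y T : Scheme.{u}⦄, (X ⟶ Y) → (Y ⟶ T) → Prop}
    (hP : ConsProp.IsIndConsMor P) (f : X ⟶ Y) (g : Y ⟶ S)
    [LocallyOfFinitePresentation g] [QuasiCompact g] [QuasiSeparated g]
    [LocallyOfFinitePresentation (f ≫ g)] [QuasiCompact (f ≫ g)] [QuasiSeparated (f ≫ g)] :
    ProCons.IsIndConstructible (ConsProp.locusMor P f g) :=
  isIndConstructible_of_affine fun W hW => by
    obtain ⟨S', _, π, X', Y', f', g', _, _, _, _, e⟩ := exists_affine_model_mor hP.1 f g W hW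
    rw [e]
    exact isIndConstructible_preimage π (isIndConstructible_locusMor_noetherian hP f' g')

theorem isLocallyConstructible_locusPair {P : ∀ ⦃X Y T : Scheme.{u}⦄, (X ⟶ T) → (Y ⟶ T) → Prop}
    (hP : ConsPropPair.IsConsPair P) (u : X ⟶ S) (v : Y ⟶ S)
    [LocallyOfFinitePresentation u] [QuasiCompact u] [QuasiSeparated u]
    [LocallyOfFinitePresentation v] [QuasiCompact v] [QuasiSeparated v] :
    IsLocallyConstructible (ConsPropPair.locusPair P u v) :=
  isLocallyConstructible_of_affine fun W hW => by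
    obtain ⟨S', _, π, X', Y', u', v', _, _, _, _, e⟩ := exists_affine_model_pair hP.1 u v W hW
    rw [e]
    exact SpPts86.isLocallyConstructible_preimage π (isLocallyConstructible_locusPair_noetherian hP u' v')

theorem isIndConstructible_locusPair {P : ∀ ⦃X Y T : Scheme.{u}⦄, (X ⟶ T) → (Y ⟶ T) → Prop}
    (hP : ConsPropPair.IsIndConsPair P) (u : X ⟶ S) (v : Y ⟶ S)
    [LocallyOfFinitePresentation u] [QuasiCompact u] [QuasiSeparated u]
    [LocallyOfFinitePresentation v] [QuasiCompact v] [QuasiSeparated v] :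
    ProCons.IsIndConstructible (ConsPropPair.locusPair P u v) :=
  isIndConstructible_of_affine fun W hW => by
    obtain ⟨S', _, π, X', Y', u', v', _, _, _, _, e⟩ := exists_affine_model_pair hP.1 u v W hW
    rw [e]
    exact isIndConstructible_preimage π (isIndConstructible_locusPair_noetherian hP u' v')

end Locus

end Groth.Agent.ConsProp93
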