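import Groth.Agent.Cons62.Sep
import Groth.Agent.ConsPts12.Cons
import Groth.Agent.LimDesc62.QuasiFinite
import Groth.Prelude.Def_EGA4Misc
import Mathlib.AlgebraicGeometry.Morphisms.FlatDescent

/-! Basic tools for constructible properties of algebraic schemes. -/

set_option autoImplicit false
universe u

open CategoryTheory CategoryTheory.Limits AlgebraicGeometry TopologicalSpace Topology

namespace Groth.Agent.ConsProp93

theorem genericPoint_mem_interior {S : Scheme.{u}} [IrreducibleSpace S] {E : Set S}
    (hE : ProCons.IsIndConstructible E) (h : genericPoint S ∈ E) :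
    genericPoint S ∈ interior E :=
  (ConsPts12.mem_interior_iff hE _).mpr fun x' hx' => by
    rwa [(hx'.antisymm (genericPoint_specializes x')).eq]

theorem interior_nonempty_or {S : Scheme.{u}} [IrreducibleSpace S] {E : Set S}
    (hE : IsLocallyConstructible E) : (interior E).Nonempty ∨ (interior Eᶜ).Nonempty := by
  by_cases h : genericPoint S ∈ E
  · exact .inl ⟨_, genericPoint_mem_interior (ConsPts12.isLocallyConstructible_iff.mp hE).1 h⟩
  · exact .inr ⟨_, genericPoint_mem_interior
      (ConsPts12.isLocallyConstructible_iff.mp (Cons62.isLocallyConstructible_compl hE)).1 h⟩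

theorem lfp_of_noetherian {X S : Scheme.{u}} (u : X ⟶ S) [IsLocallyNoetherian S]
    [LocallyOfFiniteType u] : LocallyOfFinitePresentation u := by
  infer_instance

theorem qs_of_noetherian {X S : Scheme.{u}} (u : X ⟶ S) [IsLocallyNoetherian S]
    [LocallyOfFiniteType u] : QuasiSeparated u :=
  have := LocallyOfFiniteType.isLocallyNoetherian u
  inferInstance

theorem isLocallyConstructible_of_isClosed {X : Scheme.{u}} [IsLocallyNoetherian X] {Z : Set X}
    (hZ : IsClosed Z) : IsLocallyConstructible Z := by
  rw [show Z = Zᶜᶜ from (compl_compl Z).symm]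
  refine Cons62.isLocallyConstructible_compl fun x => ?_
  obtain ⟨_, ⟨V, hV, rfl⟩, hx, -⟩ :=
    X.isBasis_affineOpens.exists_subset_of_mem_open (Set.mem_univ x) isOpen_univ
  refine ⟨V, V.2.mem_nhds hx, V.2, ?_⟩
  have : IsAffine (V : Scheme.{u}) := hV
  have : IsNoetherian (V : Scheme.{u}) := { }
  have ho : IsOpen ((Scheme.Opens.ι V) ⁻¹' Zᶜ) := hZ.isOpen_compl.preimage (Scheme.Opens.ι V).continuous
  show IsConstructible ((Scheme.Opens.ι V) ⁻¹' Zᶜ)
  exact IsRetrocompact.isConstructible ho fun U _ _ => NoetherianSpace.isCompact _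

theorem surjective_of_subsingleton {T' T : Scheme.{u}} (h : T' ⟶ T) [Subsingleton T] [Nonempty T'] :
    Surjective h :=
  ⟨fun _ => ⟨Classical.arbitrary T', Subsingleton.elim _ _⟩⟩

theorem surjective_of_isPullback {P X Y Z : Scheme.{u}} {p : P ⟶ X} {q : P ⟶ Y} {f : X ⟶ Z}
    {g : Y ⟶ Z} (h : IsPullback p q f g) [Surjective g] : Surjective p :=
  MorphismProperty.of_isPullback (P := @Surjective) h.flip inferInstance

theorem isFinite_iff_finite {Y T : Scheme.{u}} (g : Y ⟶ T) [IsIntegral T] [Subsingleton T]
    [LocallyOfFiniteType g] [QuasiCompact g] : IsFinite g ↔ Finite Y := by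
  constructor
  · intro _
    rw [← Set.finite_univ_iff]
    exact (g.finite_preimage (Set.toFinite Set.univ)).subset fun y _ => Set.mem_univ _
  · intro _
    have : LocallyQuasiFinite g := .of_finite_preimage_singleton _ fun _ => Set.toFinite _
    exact IsFinite.of_locallyQuasiFinite g

theorem finite_preimage_iff_forall_quasiFiniteAt {X Y : Scheme.{u}} (f : X ⟶ Y)
    [LocallyOfFiniteType f] [QuasiCompact f] (y : Y) :
    (f ⁻¹' {y}).Finite ↔ ∀ x, f x = y → f.QuasiFiniteAt x := by
  constructor
  · rintro h x rfl
    have : Finite (f.fiber (f x)) := (f.fiberHomeo (f x)).finite_iff.mpr h.to_subtype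
    exact Scheme.Hom.quasiFiniteAt_iff_isOpen_singleton_asFiber.mpr (isOpen_discrete _)
  · intro h
    have : DiscreteTopology (f.fiber y) := discreteTopology_iff_isOpen_singleton.mpr fun z => by
      rw [← LimDesc62.quasiFiniteAt_fiberι_iff]
      refine h _ ?_
      have := Set.mem_range_self (f := f.fiberι y) z
      rwa [f.range_fiberι] at this
    exact (f.isCompact_preimage_singleton y).finite
      ⟨((f.fiberHomeo y).symm.isEmbedding.discreteTopology)⟩

theorem setOf_finite_eq {X S : Scheme.{u}} (u : X ⟶ S) [LocallyOfFiniteType u] [QuasiCompact u] :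
    {s : S | (u ⁻¹' {s}).Finite} = (u '' (u.quasiFiniteLocus : Set X)ᶜ)ᶜ := by
  ext s
  simp only [Set.mem_setOf_eq, Set.mem_compl_iff, Set.mem_image, not_exists, not_and]
  rw [finite_preimage_iff_forall_quasiFiniteAt]
  exact ⟨fun h x hx hxs => hx (h x hxs), fun h x hxs => not_not.mp fun hx => h x hx hxs⟩

theorem isFinite_fiber_iff {X S : Scheme.{u}} (u : X ⟶ S) [LocallyOfFiniteType u] [QuasiCompact u]
    (s : S) : IsFinite (u.fiberToSpecResidueField s) ↔ (u ⁻¹' {s}).Finite := by
  have : LocallyOfFiniteType (u.fiberToSpecResidueField s) :=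
    inferInstanceAs (LocallyOfFiniteType (pullback.snd _ _))
  have : QuasiCompact (u.fiberToSpecResidueField s) :=
    inferInstanceAs (QuasiCompact (pullback.snd _ _))
  rw [isFinite_iff_finite, (u.fiberHomeo s).finite_iff, Set.finite_coe_iff]

theorem isLocallyConstructible_finite {X S : Scheme.{u}} (u : X ⟶ S) [IsLocallyNoetherian S]
    [LocallyOfFiniteType u] [QuasiCompact u] :
    IsLocallyConstructible {s : S | (u ⁻¹' {s}).Finite} := by
  have := lfp_of_noetherian u
  have := LocallyOfFiniteType.isLocallyNoetherian u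
  rw [setOf_finite_eq]
  exact Cons62.isLocallyConstructible_compl (u.isLocallyConstructible_image
    (isLocallyConstructible_of_isClosed u.quasiFiniteLocus.isOpen.isClosed_compl))

set_option backward.isDefEq.respectTransparency.types false in
theorem universallyInjective_descendsAlong :
    MorphismProperty.DescendsAlong (@UniversallyInjective : MorphismProperty Scheme.{u})
      (@Surjective : MorphismProperty Scheme.{u}) := by
  have : MorphismProperty.DescendsAlong (@Surjective : MorphismProperty Scheme.{u})
      (@Surjective : MorphismProperty Scheme.{u}) := .of_le (Q := @Surjective) le_rfl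
  rw [universallyInjective_eq_diagonal]
  infer_instance

theorem universallyInjective_iff_of_isPullback {P X Y Z : Scheme.{u}} {p : P ⟶ X} {q : P ⟶ Y}
    {f : X ⟶ Z} {g : Y ⟶ Z} (h : IsPullback p q f g) [Surjective g] :
    UniversallyInjective f ↔ UniversallyInjective q := by
  have := universallyInjective_descendsAlong.{u}
  have := Cons62.respectsIso_universallyInjective.{u}
  exact ⟨fun hf => MorphismProperty.of_isPullback (P := @UniversallyInjective) h hf,
    fun hq => MorphismProperty.of_isPullback_of_descendsAlong (Q := @Surjective) h.flip ‹_› hq⟩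

/-- The fibre of a family is the fibre map over the identity of the base. -/
theorem prop_fiber_iff {P : MorphismProperty Scheme.{u}} [P.RespectsIso] {X S : Scheme.{u}} (u : X ⟶ S)
    (s : S) : P (u.fiberToSpecResidueField s) ↔ P (Cons62.fib u (𝟙 S) s) := by
  have h : pullback.fst (𝟙 S) (S.fromSpecResidueField s) =
      pullback.snd (𝟙 S) (S.fromSpecResidueField s) ≫ S.fromSpecResidueField s := by
    rw [← pullback.condition, Category.comp_id]
  have key : ∀ t : pullback (𝟙 S) (S.fromSpecResidueField s) ⟶ S,
      t = pullback.snd (𝟙 S) (S.fromSpecResidueField s) ≫ S.fromSpecResidueField s →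
      (P (u.fiberToSpecResidueField s) ↔ P (pullback.snd u t)) := by
    rintro _ rfl
    exact (Cons62.prop_snd_iso_iff (P := P) u (S.fromSpecResidueField s) _).symm
  exact key _ h

theorem prop_fiberMap_iff {P : MorphismProperty Scheme.{u}} [P.RespectsIso] {X Y S : Scheme.{u}}
    (f : X ⟶ Y) (g : Y ⟶ S) (s : S) :
    P (MoreMor.fiberMap f g s) ↔ s ∈ Cons62.goodSet P f g := by
  rw [← Cons62.setOf_lift_eq]
  exact Iff.rfl

theorem lqf_fib_iff {X Y S : Scheme.{u}} (f : X ⟶ Y) (g : Y ⟶ S) [LocallyOfFiniteType f]
    [QuasiCompact f] (s : S) :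
    LocallyQuasiFinite (Cons62.fib f g s) ↔ ∀ y, g y = s → (f ⁻¹' {y}).Finite := by
  set t := pullback.fst g (S.fromSpecResidueField s)
  have htr : Set.range t = g ⁻¹' {s} := Cons62.range_fst_fib g s
  have htinj : Function.Injective t := t.isEmbedding.injective
  have hp : Function.Injective (pullback.fst f t) := (pullback.fst f t).isEmbedding.injective
  show LocallyQuasiFinite (pullback.snd f t) ↔ _
  rw [locallyQuasiFinite_iff_finite_preimage_singleton]
  constructor
  · intro h y hy
    obtain ⟨z, hz⟩ : y ∈ Set.range t := by rw [htr]; exact hy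
    refine ((h z).image (pullback.fst f t)).subset fun x (hx : f x = y) => ?_
    obtain ⟨w, hw1, hw2⟩ := Scheme.Pullback.exists_preimage_pullback x z (hx.trans hz.symm)
    exact ⟨w, hw2, hw1⟩
  · intro h z
    have h1 : (f ⁻¹' {t z}).Finite := h _ (by
      have := Set.mem_range_self (f := t) z
      rwa [htr] at this)
    refine (h1.preimage hp.injOn).subset fun w (hw : pullback.snd f t w = z) => ?_
    show f (pullback.fst f t w) = t z
    rw [← Scheme.Hom.comp_apply, pullback.condition, Scheme.Hom.comp_apply, hw]

theorem isLocallyConstructible_lqf {X Y S : Scheme.{u}} (f : X ⟶ Y) (g : Y ⟶ S) [IsLocallyNoetherian S]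
    [LocallyOfFiniteType g] [QuasiCompact g] [LocallyOfFiniteType f] [QuasiCompact f] :
    IsLocallyConstructible {s | LocallyQuasiFinite (Cons62.fib f g s)} := by
  have := lfp_of_noetherian g
  have := LocallyOfFiniteType.isLocallyNoetherian g
  have e : {s | LocallyQuasiFinite (Cons62.fib f g s)} = (g '' {y | (f ⁻¹' {y}).Finite}ᶜ)ᶜ := by
    ext s
    simp only [Set.mem_setOf_eq, lqf_fib_iff, Set.mem_compl_iff, Set.mem_image, not_exists, not_and]
    exact ⟨fun h y hy hys => hy (h y hys), fun h y hys => not_not.mp fun hy => h y hy hys⟩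
  rw [e]
  exact Cons62.isLocallyConstructible_compl (g.isLocallyConstructible_image
    (Cons62.isLocallyConstructible_compl (isLocallyConstructible_finite f)))

end Groth.Agent.ConsProp93

namespace Groth.Agent.ConsProp93

set_option backward.isDefEq.respectTransparency.types false in
theorem respectsIso_quasiCompact :
    MorphismProperty.RespectsIso (@QuasiCompact : MorphismProperty Scheme.{u}) := inferInstance

end Groth.Agent.ConsProp93
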