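import Groth.Agent.EGA4Alg4.IntegralDim
import Mathlib.RingTheory.NoetherNormalization
import Mathlib.RingTheory.KrullDimension.Polynomial
import Mathlib.RingTheory.TensorProduct.MvPolynomial

/-! Dimension of the fibres of a finite type algebra through Noether normalization. -/

set_option autoImplicit false
universe u

open TensorProduct

namespace Groth.Agent.ConsProp93

/-- An integral algebra with surjective spectrum has the dimension of the base. -/
theorem ringKrullDim_eq_of_integral_surjective (P R : Type u) [CommRing P] [CommRing R] [Algebra P R]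
    [Algebra.IsIntegral P R] (h : Function.Surjective (PrimeSpectrum.comap (algebraMap P R))) :
    ringKrullDim R = ringKrullDim P := by
  refine le_antisymm (EGA4Alg4.ringKrullDim_le_of_integral P R) ?_
  refine iSup_le fun l => ?_
  obtain ⟨Q, hQ⟩ := h l.head
  have : Q.asIdeal.LiesOver l.head.asIdeal := ⟨(congrArg PrimeSpectrum.asIdeal hQ).symm⟩
  obtain ⟨L, hL, -, -⟩ := Ideal.exists_ltSeries_of_hasGoingUp l Q.asIdeal
  exact le_of_eq_of_le (by rw [hL]) (le_iSup _ L)

variable {A B : Type u} [CommRing A] [CommRing B] [Algebra A B]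

/-- A ring map injective and integral after inverting `a` is surjective on spectra away from `a`. -/
theorem exists_prime_over {s : ℕ} (g : MvPolynomial (Fin s) A →ₐ[A] B) (hg : Function.Injective g)
    (a : A) (hint : ∀ b : B, ∃ n : ℕ, g.toRingHom.IsIntegralElem (algebraMap A B a ^ n * b))
    (q : PrimeSpectrum (MvPolynomial (Fin s) A)) (ha : algebraMap A _ a ∉ q.asIdeal) :
    ∃ Q : PrimeSpectrum B, PrimeSpectrum.comap g.toRingHom Q = q := by
  algebraize [g.toRingHom]
  let P := MvPolynomial (Fin s) A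
  let C := integralClosure P B
  have : Algebra.IsIntegral P C := integralClosure.AlgebraIsIntegral
  have hPC : Function.Injective (algebraMap P C) := fun x y h => hg (congrArg Subtype.val h)
  obtain ⟨Q₀, -, hQ₀, hQ₀q⟩ := Ideal.exists_ideal_over_prime_of_isIntegral (S := C) q.asIdeal ⊥
    (by rw [← RingHom.ker_eq_comap_bot, (RingHom.injective_iff_ker_eq_bot _).mp hPC]; exact bot_le)
  let aC : C := algebraMap P C (algebraMap A P a)
  have haC : aC ∉ Q₀ := fun h => ha (by rw [← hQ₀q]; exact h)
  have haB : C.val aC = algebraMap A B a := g.commutes a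
  have hmem : ∀ b : B, ∃ (n : ℕ) (c : C), algebraMap A B a ^ n * b = C.val c := fun b => by
    obtain ⟨n, hn⟩ := hint b
    exact ⟨n, ⟨_, hn⟩, rfl⟩
  have key : ∀ x ∈ Q₀.map C.val.toRingHom, ∃ (n : ℕ) (c : C), c ∈ Q₀ ∧ algebraMap A B a ^ n * x = C.val c := by
    intro x hx
    induction hx using Submodule.span_induction with
    | mem x hx =>
      obtain ⟨c, hc, rfl⟩ := hx
      exact ⟨0, c, hc, by simp⟩
    | zero => exact ⟨0, 0, Q₀.zero_mem, by simp⟩
    | add x y _ _ hx hy =>
      obtain ⟨n, c, hc, hx⟩ := hx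
      obtain ⟨m, d, hd, hy⟩ := hy
      refine ⟨n + m, aC ^ m * c + aC ^ n * d, Q₀.add_mem (Q₀.mul_mem_left _ hc) (Q₀.mul_mem_left _ hd), ?_⟩
      rw [map_add, map_mul, map_mul, map_pow, map_pow, haB, ← hx, ← hy]
      ring
    | smul b x _ hx =>
      obtain ⟨n, c, hc, hx⟩ := hx
      obtain ⟨m, d, hd⟩ := hmem b
      refine ⟨m + n, d * c, Q₀.mul_mem_left _ hc, ?_⟩
      rw [map_mul, ← hx, ← hd, smul_eq_mul]
      ring
  have hcm : (Q₀.map C.val.toRingHom).comap C.val.toRingHom = Q₀ := by
    refine le_antisymm (fun x hx => ?_) Ideal.le_comap_map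
    obtain ⟨n, c, hc, hn⟩ := key _ hx
    have e : aC ^ n * x = c := by
      apply Subtype.val_injective
      show C.val (aC ^ n * x) = C.val c
      rw [map_mul, map_pow, haB]
      exact hn
    have : aC ^ n * x ∈ Q₀ := e ▸ hc
    exact (hQ₀.mem_or_mem this).resolve_left fun h => haC (hQ₀.mem_of_pow_mem n h)
  obtain ⟨Q, hQ, hQc⟩ := (Ideal.comap_map_eq_self_iff_of_isPrime Q₀).mp hcm
  exact ⟨⟨Q, hQ⟩, PrimeSpectrum.ext (by rw [← hQ₀q, ← hQc]; rfl)⟩

/-- The dimension of a fibre, from a normalization valid away from `a`. -/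
theorem ringKrullDim_tensor_eq {s : ℕ} (g : MvPolynomial (Fin s) A →ₐ[A] B) (hg : Function.Injective g)
    (a : A) (hint : ∀ b : B, ∃ n : ℕ, g.toRingHom.IsIntegralElem (algebraMap A B a ^ n * b))
    (K : Type u) [Field K] [Algebra A K] (ha : algebraMap A K a ≠ 0) :
    ringKrullDim (K ⊗[A] B) = (s : WithBot ℕ∞) := by
  let P := MvPolynomial (Fin s) A
  let f : K ⊗[A] P →ₐ[K] K ⊗[A] B := Algebra.TensorProduct.map (AlgHom.id K K) g
  have hdimP : ringKrullDim (K ⊗[A] P) = (s : WithBot ℕ∞) := by
    rw [ringKrullDim_eq_of_ringEquiv (MvPolynomial.algebraTensorAlgEquiv A K).toRingEquiv,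
      MvPolynomial.ringKrullDim_of_isNoetherianRing, ringKrullDim_eq_zero_of_field, Nat.card_fin, zero_add]
  rw [← hdimP]
  algebraize [f.toRingHom]
  have hfint : f.toRingHom.IsIntegral := by
    intro x
    induction x using TensorProduct.induction_on with
    | zero => exact RingHom.isIntegralElem_zero _
    | add x y hx hy => exact RingHom.IsIntegralElem.add _ hx hy
    | tmul k b =>
      obtain ⟨n, hn⟩ := hint b
      have h1 : f.toRingHom.IsIntegralElem ((1 : K) ⊗ₜ[A] (algebraMap A B a ^ n * b)) := by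
        obtain ⟨p, hp, hp0⟩ := hn
        let ir : P →+* K ⊗[A] P := (Algebra.TensorProduct.includeRight (R := A) (A := K) (B := P)).toRingHom
        refine ⟨p.map ir, hp.map _, ?_⟩
        rw [Polynomial.eval₂_map]
        let ir' : B →+* K ⊗[A] B := (Algebra.TensorProduct.includeRight (R := A) (A := K) (B := B)).toRingHom
        have e : f.toRingHom.comp ir = ir'.comp g.toRingHom := RingHom.ext fun x => by
          simp [f, ir, ir']
        rw [e]
        show Polynomial.eval₂ (ir'.comp g.toRingHom) (ir' _) p = 0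
        rw [← Polynomial.hom_eval₂, hp0, map_zero]
      have e : k ⊗ₜ[A] b = f ((k * (algebraMap A K a)⁻¹ ^ n) ⊗ₜ[A] (1 : P)) *
          ((1 : K) ⊗ₜ[A] (algebraMap A B a ^ n * b)) := by
        simp only [f, Algebra.TensorProduct.map_tmul, AlgHom.coe_id, id_eq, map_one,
          Algebra.TensorProduct.tmul_mul_tmul, one_mul, mul_one]
        rw [← map_pow (algebraMap A B), ← Algebra.smul_def, ← TensorProduct.smul_tmul, Algebra.smul_def,
          map_pow, ← mul_assoc, mul_comm _ k, mul_assoc, ← mul_pow, mul_inv_cancel₀ ha, one_pow, mul_one]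
      rw [e]
      exact RingHom.IsIntegralElem.mul _ (RingHom.isIntegralElem_map _) h1
  have : Algebra.IsIntegral (K ⊗[A] P) (K ⊗[A] B) := ⟨hfint⟩
  refine ringKrullDim_eq_of_integral_surjective _ _ fun Q => ?_
  let q : PrimeSpectrum P :=
    PrimeSpectrum.comap (Algebra.TensorProduct.includeRight (R := A) (A := K) (B := P)).toRingHom Q
  have haq : algebraMap A P a ∉ q.asIdeal := fun h => by
    have h' : (1 : K) ⊗ₜ[A] algebraMap A P a ∈ Q.asIdeal := h
    rw [Algebra.algebraMap_eq_smul_one, TensorProduct.tmul_smul, TensorProduct.smul_tmul',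
      ← Algebra.algebraMap_eq_smul_one] at h'
    exact Q.isPrime.ne_top (Ideal.eq_top_of_isUnit_mem _ h'
      (by
        have := (isUnit_iff_ne_zero.mpr ha).map (algebraMap K (K ⊗[A] P))
        simpa using this))
  obtain ⟨Q', hQ'⟩ := exists_prime_over g hg a hint q haq
  -- a field receiving both residue fields compatibly
  let KQ := Q.asIdeal.ResidueField
  let KQ' := Q'.asIdeal.ResidueField
  let Kq := q.asIdeal.ResidueField
  let : Algebra Kq KQ := (Ideal.ResidueField.map q.asIdeal Q.asIdeal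
    (Algebra.TensorProduct.includeRight (R := A) (A := K) (B := P)).toRingHom rfl).toAlgebra
  let : Algebra Kq KQ' := (Ideal.ResidueField.map q.asIdeal Q'.asIdeal g.toRingHom
    (congrArg PrimeSpectrum.asIdeal hQ').symm).toAlgebra
  obtain ⟨L, _, α, β, hαβ₀⟩ : ∃ (L : Type u) (_ : Field L) (α : KQ →+* L) (β : KQ' →+* L),
      ∀ c : Kq, α (algebraMap Kq KQ c) = β (algebraMap Kq KQ' c) := by
    obtain ⟨m, hm⟩ := Ideal.exists_maximal (KQ ⊗[Kq] KQ')
    exact ⟨_, Ideal.Quotient.field m, (Ideal.Quotient.mk m).comp Algebra.TensorProduct.includeLeftRingHom,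
      (Ideal.Quotient.mk m).comp
        (Algebra.TensorProduct.includeRight (R := Kq) (A := KQ) (B := KQ')).toRingHom,
      fun c => congrArg (Ideal.Quotient.mk m) (Algebra.TensorProduct.tmul_one_eq_one_tmul c)⟩
  let α' : K ⊗[A] P →+* L := α.comp (algebraMap (K ⊗[A] P) KQ)
  let β' : B →+* L := β.comp (algebraMap B KQ')
  have hαβ : ∀ p : P, α' ((1 : K) ⊗ₜ[A] p) = β' (g p) := fun p => by
    have h1 : algebraMap Kq KQ (algebraMap P Kq p) = algebraMap (K ⊗[A] P) KQ ((1 : K) ⊗ₜ[A] p) :=
      Ideal.ResidueField.map_algebraMap _ _ _ _ _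
    have h2 : algebraMap Kq KQ' (algebraMap P Kq p) = algebraMap B KQ' (g p) :=
      Ideal.ResidueField.map_algebraMap _ _ _ _ _
    show α (algebraMap _ KQ _) = β (algebraMap B KQ' (g p))
    rw [← h1, ← h2]
    exact hαβ₀ _
  let : Algebra A L := (α'.comp (algebraMap A (K ⊗[A] P))).toAlgebra
  let γK : K →ₐ[A] L := AlgHom.mk (α'.comp (algebraMap K (K ⊗[A] P))) fun r => by
    show α' (algebraMap A K r ⊗ₜ[A] (1 : P)) = α' (algebraMap A (K ⊗[A] P) r)
    rfl
  let γB : B →ₐ[A] L := AlgHom.mk β' fun r => by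
    show β' (algebraMap A B r) = α' (algebraMap A (K ⊗[A] P) r)
    rw [← g.commutes, ← hαβ]
    congr 1
    rw [Algebra.TensorProduct.algebraMap_apply, Algebra.algebraMap_eq_smul_one,
      Algebra.algebraMap_eq_smul_one, ← TensorProduct.smul_tmul]
  let γ : K ⊗[A] B →ₐ[A] L := Algebra.TensorProduct.lift γK γB fun _ _ => Commute.all _ _
  have hγ : γ.toRingHom.comp f.toRingHom = α' := by
    refine RingHom.ext fun x => ?_
    induction x using TensorProduct.induction_on with
    | zero => simp
    | add x y hx hy => rw [map_add, map_add, hx, hy]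
    | tmul k p =>
      show γ (f (k ⊗ₜ[A] p)) = α' (k ⊗ₜ[A] p)
      rw [Algebra.TensorProduct.map_tmul, AlgHom.id_apply]
      erw [Algebra.TensorProduct.lift_tmul]
      show α' (k ⊗ₜ[A] (1 : P)) * β' (g p) = _
      rw [← hαβ, ← map_mul, Algebra.TensorProduct.tmul_mul_tmul, mul_one, one_mul]
  refine ⟨⟨RingHom.ker γ.toRingHom, RingHom.ker_isPrime _⟩, PrimeSpectrum.ext ?_⟩
  show (RingHom.ker γ.toRingHom).comap f.toRingHom = Q.asIdeal
  rw [RingHom.comap_ker, hγ, RingHom.ker_comp_of_injective _ α.injective, Ideal.ker_algebraMap_residueField]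

/-- A dependent tensor with a field vanishes. -/
theorem subsingleton_tensor (a : A) (h : algebraMap A B a = 0) (K : Type u) [Field K] [Algebra A K]
    (ha : algebraMap A K a ≠ 0) : Subsingleton (K ⊗[A] B) := by
  refine subsingleton_of_zero_eq_one (Eq.symm ?_)
  have e : (1 : K ⊗[A] B) = ((algebraMap A K a)⁻¹ * algebraMap A K a) ⊗ₜ[A] (1 : B) := by
    rw [inv_mul_cancel₀ ha]; rfl
  rw [e, mul_comm, ← Algebra.smul_def, TensorProduct.smul_tmul, ← Algebra.algebraMap_eq_smul_one, h,
    TensorProduct.tmul_zero]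

end Groth.Agent.ConsProp93
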