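import Groth.Agent.ConsProp93.Locus

/-! A property of algebraic schemes imposed on every fibre of a morphism. -/

set_option autoImplicit false
universe u

open CategoryTheory CategoryTheory.Limits AlgebraicGeometry TopologicalSpace Topology

namespace Groth.Agent.ConsProp93

/-- `P` on every fibre. -/
abbrev Fibrewise (P : ∀ ⦃Y T : Scheme.{u}⦄, (Y ⟶ T) → Prop) :
    ∀ ⦃X Y T : Scheme.{u}⦄, (X ⟶ Y) → (Y ⟶ T) → Prop :=
  fun _ Y _ f _ => ∀ y : ↥Y, P (f.fiberToSpecResidueField y)

theorem isFieldStableMor_fibrewise {P : ∀ ⦃Y T : Scheme.{u}⦄, (Y ⟶ T) → Prop}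
    (hP : ConsProp.IsFieldStable P) : ConsProp.IsFieldStableMor (Fibrewise P) := by
  intro X X' Y Y' T T' f g f' g' eX eY h _ _ _ _ _ _ _ _ hY hX
  have := surjective_of_subsingleton h
  have := surjective_of_isPullback hY
  have hf : LocallyOfFiniteType f := locallyOfFiniteType_of_comp f g
  have := qs_of_noetherian g
  have hq : QuasiCompact f := QuasiCompact.of_comp f g
  have e := locus_preimage hP hX
  refine ⟨fun hp y' => e.ge (hp (eY y')), fun hp y => ?_⟩
  obtain ⟨y', rfl⟩ := eY.surjective y
  exact e.le (hp y')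

theorem locusMor_fibrewise {P : ∀ ⦃Y T : Scheme.{u}⦄, (Y ⟶ T) → Prop} (hP : ConsProp.IsFieldStable P)
    {X Y S : Scheme.{u}} (f : X ⟶ Y) (g : Y ⟶ S) [LocallyOfFiniteType f] [QuasiCompact f] :
    ConsProp.locusMor (Fibrewise P) f g = (g '' (ConsProp.locus P f)ᶜ)ᶜ := by
  ext s
  have e := locus_preimage hP (isPullback_fiberMap f g s)
  have hr : ∀ z, g (g.fiberι s z) = s := fun z => by
    have := Set.mem_range_self (f := g.fiberι s) z
    rwa [g.range_fiberι] at this
  simp only [Set.mem_compl_iff, Set.mem_image, not_exists, not_and]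
  refine ⟨fun h y hy hys => hy ?_, fun h z => e.ge (not_not.mp fun hz => h _ hz (hr z))⟩
  obtain ⟨z, rfl⟩ : y ∈ Set.range (g.fiberι s) := by rw [g.range_fiberι]; exact hys
  exact e.le (h z)

theorem isConsMor_fibrewise {P : ∀ ⦃Y T : Scheme.{u}⦄, (Y ⟶ T) → Prop} (hP : ConsProp.IsCons P) :
    ConsProp.IsConsMor (Fibrewise P) := by
  refine ⟨isFieldStableMor_fibrewise hP.1, ?_⟩
  intro X Y S f g _ _ _ _ _ _
  have := lfp_of_noetherian g
  have := qs_of_noetherian g
  have := LocallyOfFiniteType.isLocallyNoetherian g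
  have hf : LocallyOfFiniteType f := locallyOfFiniteType_of_comp f g
  have hq : QuasiCompact f := QuasiCompact.of_comp f g
  rw [locusMor_fibrewise hP.1]
  exact interior_nonempty_or (Cons62.isLocallyConstructible_compl (g.isLocallyConstructible_image
    (Cons62.isLocallyConstructible_compl (isLocallyConstructible_locus hP f))))

theorem isProConstructible_compl {X : Scheme.{u}} {E : Set X} (hE : ProCons.IsIndConstructible E) :
    ProCons.IsProConstructible Eᶜ := by
  rw [ConsPts12.isProConstructible_iff]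
  exact ConsPts12.isIndConstructible_iff.mp hE

theorem isIndConstructible_compl {X : Scheme.{u}} {E : Set X} (hE : ProCons.IsProConstructible E) :
    ProCons.IsIndConstructible Eᶜ := by
  rw [ConsPts12.isIndConstructible_iff, compl_compl]
  exact ConsPts12.isProConstructible_iff.mp hE

theorem isIndConsMor_fibrewise {P : ∀ ⦃Y T : Scheme.{u}⦄, (Y ⟶ T) → Prop} (hP : ConsProp.IsIndCons P) :
    ConsProp.IsIndConsMor (Fibrewise P) := by
  refine ⟨isFieldStableMor_fibrewise hP.1, ?_⟩
  intro X Y S f g _ _ _ _ _ _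
  have := qs_of_noetherian g
  have := LocallyOfFiniteType.isLocallyNoetherian g
  have hf : LocallyOfFiniteType f := locallyOfFiniteType_of_comp f g
  have hq : QuasiCompact f := QuasiCompact.of_comp f g
  rw [locusMor_fibrewise hP.1]
  exact fun h => ⟨_, genericPoint_mem_interior (isIndConstructible_compl
    (ConsPts12.isProConstructible_image g (isProConstructible_compl (isIndConstructible_locus hP f)))) h⟩

end Groth.Agent.ConsProp93
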