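import Groth.Agent.ConsProp93.Approx

/-! Constructible properties and limits of schemes. -/

set_option autoImplicit false
set_option backward.isDefEq.respectTransparency false
universe u

open CategoryTheory CategoryTheory.Limits AlgebraicGeometry TopologicalSpace Topology

namespace Groth.Agent.ConsProp93

open LimTop61

theorem mem_interior_genericPoint {S : Scheme.{u}} [IrreducibleSpace S] {E : Set S}
    (hE : ProCons.IsIndConstructible E) (h : genericPoint S ∈ E) : genericPoint S ∈ interior E :=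
  (ConsPts12.mem_interior_iff hE _).mpr fun x hx => by
    obtain rfl : x = genericPoint S := (hx.antisymm (genericPoint_specializes x)).eq
    exact h

theorem mem_interior_genericPoint_or {S : Scheme.{u}} [IrreducibleSpace S] {E : Set S}
    (hE : IsLocallyConstructible E) :
    genericPoint S ∈ interior E ∨ genericPoint S ∈ interior Eᶜ := by
  obtain ⟨hi, hp⟩ := ConsPts12.isLocallyConstructible_iff.mp hE
  rcases Classical.em (genericPoint S ∈ E) with h | h
  · exact Or.inl (mem_interior_genericPoint hi h)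
  · refine Or.inr (mem_interior_genericPoint (ConsPts12.isIndConstructible_iff.mpr ?_) h)
    rw [compl_compl]
    exact ConsPts12.isProConstructible_iff.mp hp

variable {I : Type u} [SmallCategory I] [IsCofiltered I] (D : I ⥤ Scheme.{u}) {c : Cone D}
  (hc : IsLimit c) [∀ (i j : I) (a : i ⟶ j), IsAffineHom (D.map a)] {i₀ : I}
  [CompactSpace ↥(D.obj i₀)]

include hc in
/-- A compatible family of ind-constructible sets covering the limit covers some stage. -/
theorem exists_stage_univ (E : ∀ j : Over i₀, Set (D.obj j.left))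
    (hE : ∀ j, ProCons.IsIndConstructible (E j))
    (hm : ∀ {j k : Over i₀} (f : j ⟶ k), D.map f.left ⁻¹' E k ⊆ E j)
    (h : ∀ s : c.pt, c.π.app i₀ s ∈ E (Over.mk (𝟙 i₀))) : ∃ j, ∀ t, t ∈ E j := by
  obtain ⟨j, hj⟩ := exists_subset_of_preimage_subset D c hc (i₀ := i₀) (fun _ => Set.univ) E
    (fun j => isConsClosed_of_isClosed isClosed_univ)
    (fun j => isConsClosed_compl_of_isIndConstructible (hE j))
    (fun _ => Set.subset_univ _) (fun f => hm f) fun s _ => ⟨Over.mk (𝟙 i₀), h s⟩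
  exact ⟨j, fun t => hj trivial⟩

include hc in
theorem forall_mem_locusMod_iff {P : ∀ ⦃Y T : Scheme.{u}⦄, (Y ⟶ T) → Y.Modules → Prop}
    (hP : ConsProp.IsIndConsMod P) {X₀ : Scheme.{u}} (u₀ : X₀ ⟶ D.obj i₀)
    [LocallyOfFinitePresentation u₀] [QuasiCompact u₀] [QuasiSeparated u₀]
    (F₀ : X₀.Modules) [F₀.IsQuasicoherent] [CohB1.IsFP F₀]
    {X : Scheme.{u}} (u : X ⟶ c.pt) (q : X ⟶ X₀) (hX : IsPullback q u u₀ (c.π.app i₀)) :
    (∀ s : ↥c.pt, s ∈ ConsProp.locusMod P u ((Scheme.Modules.pullback q).obj F₀)) ↔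
      ∃ (j : I) (φ : j ⟶ i₀) (Xj : Scheme.{u}) (uj : Xj ⟶ D.obj j) (p : Xj ⟶ X₀),
        IsPullback p uj u₀ (D.map φ) ∧
          ∀ t : ↥(D.obj j), t ∈ ConsProp.locusMod P uj ((Scheme.Modules.pullback p).obj F₀) := by
  have hF₀ := isCoh_of_isFP (F := F₀) ‹_› ‹_›
  constructor
  · intro h
    let E : ∀ j : Over i₀, Set (D.obj j.left) := fun j =>
      ConsProp.locusMod P (pullback.snd u₀ (D.map j.hom))
        ((Scheme.Modules.pullback (pullback.fst u₀ (D.map j.hom))).obj F₀)
    have hpre : ∀ j : Over i₀, E j = D.map j.hom ⁻¹' ConsProp.locusMod P u₀ F₀ := fun j =>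
      locusMod_preimage hP.1 (IsPullback.of_hasPullback u₀ (D.map j.hom)) F₀ hF₀
    obtain ⟨j, hj⟩ := exists_stage_univ D hc E
      (fun j => by
        rw [hpre]
        exact isIndConstructible_preimage _ (isIndConstructible_locusMod hP u₀ F₀))
      (fun {j k} f => by
        rw [hpre, hpre]
        intro t ht
        have := Over.w f
        rw [Set.mem_preimage] at *
        rw [← this, D.map_comp, Scheme.Hom.comp_apply]
        exact ht)
      (fun s => by
        rw [hpre]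
        have := h s
        rw [locusMod_preimage hP.1 hX F₀ hF₀] at this
        rw [Set.mem_preimage] at *
        erw [D.map_id]
        exact this)
    exact ⟨j.left, j.hom, _, _, _, IsPullback.of_hasPullback u₀ (D.map j.hom), hj⟩
  · rintro ⟨j, φ, Xj, uj, p, hp, ht⟩ s
    rw [locusMod_preimage hP.1 hX F₀ hF₀]
    have := ht (c.π.app j s)
    rw [locusMod_preimage hP.1 hp F₀ hF₀, Set.mem_preimage, ← Scheme.Hom.comp_apply, c.w φ] at this
    exact this

include hc in
theorem forall_mem_locusMor_iff {P : ∀ ⦃X Y T : Scheme.{u}⦄, (X ⟶ Y) → (Y ⟶ T) → Prop}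
    (hP : ConsProp.IsIndConsMor P) {X₀ Y₀ : Scheme.{u}} (f₀ : X₀ ⟶ Y₀) (g₀ : Y₀ ⟶ D.obj i₀)
    [LocallyOfFinitePresentation g₀] [QuasiCompact g₀] [QuasiSeparated g₀]
    [LocallyOfFinitePresentation (f₀ ≫ g₀)] [QuasiCompact (f₀ ≫ g₀)] [QuasiSeparated (f₀ ≫ g₀)]
    {X Y : Scheme.{u}} (f : X ⟶ Y) (g : Y ⟶ c.pt) (qY : Y ⟶ Y₀) (qX : X ⟶ X₀)
    (hY : IsPullback qY g g₀ (c.π.app i₀)) (hX : IsPullback qX f f₀ qY) :
    (∀ s : ↥c.pt, s ∈ ConsProp.locusMor P f g) ↔
      ∃ (j : I) (φ : j ⟶ i₀) (Xj Yj : Scheme.{u}) (fj : Xj ⟶ Yj) (gj : Yj ⟶ D.obj j)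
        (pY : Yj ⟶ Y₀) (pX : Xj ⟶ X₀), IsPullback pY gj g₀ (D.map φ) ∧ IsPullback pX fj f₀ pY ∧
          ∀ t : ↥(D.obj j), t ∈ ConsProp.locusMor P fj gj := by
  constructor
  · intro h
    obtain ⟨j, hj⟩ := exists_stage_univ D hc
      (fun j => D.map j.hom ⁻¹' ConsProp.locusMor P f₀ g₀)
      (fun j => isIndConstructible_preimage _ (isIndConstructible_locusMor hP f₀ g₀))
      (fun {j k} f => by
        intro t ht
        have := Over.w f
        rw [Set.mem_preimage] at *
        rw [← this, D.map_comp, Scheme.Hom.comp_apply]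
        exact ht)
      (fun s => by
        have := h s
        rw [locusMor_preimage hP.1 hY hX] at this
        rw [Set.mem_preimage] at *
        erw [D.map_id]
        exact this)
    refine ⟨j.left, j.hom, _, _, _, _, _, _, IsPullback.of_hasPullback g₀ (D.map j.hom),
      IsPullback.of_hasPullback f₀ (pullback.fst g₀ (D.map j.hom)), fun t => ?_⟩
    rw [locusMor_preimage hP.1 (IsPullback.of_hasPullback g₀ (D.map j.hom))
      (IsPullback.of_hasPullback f₀ (pullback.fst g₀ (D.map j.hom)))]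
    exact hj t
  · rintro ⟨j, φ, Xj, Yj, fj, gj, pY, pX, hYj, hXj, ht⟩ s
    rw [locusMor_preimage hP.1 hY hX]
    have := ht (c.π.app j s)
    rw [locusMor_preimage hP.1 hYj hXj, Set.mem_preimage, ← Scheme.Hom.comp_apply, c.w φ] at this
    exact this

include hc in
theorem forall_mem_locusPair_iff {P : ∀ ⦃X Y T : Scheme.{u}⦄, (X ⟶ T) → (Y ⟶ T) → Prop}
    (hP : ConsPropPair.IsIndConsPair P) {X₀ Y₀ : Scheme.{u}} (u₀ : X₀ ⟶ D.obj i₀) (v₀ : Y₀ ⟶ D.obj i₀)
    [LocallyOfFinitePresentation u₀] [QuasiCompact u₀] [QuasiSeparated u₀]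
    [LocallyOfFinitePresentation v₀] [QuasiCompact v₀] [QuasiSeparated v₀]
    {X Y : Scheme.{u}} (u : X ⟶ c.pt) (v : Y ⟶ c.pt) (qX : X ⟶ X₀) (qY : Y ⟶ Y₀)
    (hX : IsPullback qX u u₀ (c.π.app i₀)) (hY : IsPullback qY v v₀ (c.π.app i₀)) :
    (∀ s : ↥c.pt, s ∈ ConsPropPair.locusPair P u v) ↔
      ∃ (j : I) (φ : j ⟶ i₀) (Xj Yj : Scheme.{u}) (uj : Xj ⟶ D.obj j) (vj : Yj ⟶ D.obj j)
        (pX : Xj ⟶ X₀) (pY : Yj ⟶ Y₀), IsPullback pX uj u₀ (D.map φ) ∧ IsPullback pY vj v₀ (D.map φ) ∧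
          ∀ t : ↥(D.obj j), t ∈ ConsPropPair.locusPair P uj vj := by
  constructor
  · intro h
    obtain ⟨j, hj⟩ := exists_stage_univ D hc
      (fun j => D.map j.hom ⁻¹' ConsPropPair.locusPair P u₀ v₀)
      (fun j => isIndConstructible_preimage _ (isIndConstructible_locusPair hP u₀ v₀))
      (fun {j k} f => by
        intro t ht
        have := Over.w f
        rw [Set.mem_preimage] at *
        rw [← this, D.map_comp, Scheme.Hom.comp_apply]
        exact ht)
      (fun s => by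
        have := h s
        rw [locusPair_preimage hP.1 hX hY] at this
        rw [Set.mem_preimage] at *
        erw [D.map_id]
        exact this)
    refine ⟨j.left, j.hom, _, _, _, _, _, _, IsPullback.of_hasPullback u₀ (D.map j.hom),
      IsPullback.of_hasPullback v₀ (D.map j.hom), fun t => ?_⟩
    rw [locusPair_preimage hP.1 (IsPullback.of_hasPullback u₀ (D.map j.hom))
      (IsPullback.of_hasPullback v₀ (D.map j.hom))]
    exact hj t
  · rintro ⟨j, φ, Xj, Yj, uj, vj, pX, pY, hXj, hYj, ht⟩ s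
    rw [locusPair_preimage hP.1 hX hY]
    have := ht (c.π.app j s)
    rw [locusPair_preimage hP.1 hXj hYj, Set.mem_preimage, ← Scheme.Hom.comp_apply, c.w φ] at this
    exact this

end Groth.Agent.ConsProp93
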