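import Groth.Agent.ConsProp93.Locus
import Groth.Agent.LimTop61.IsoDescent
import Groth.Agent.LimTop61.FgSubalgLimit
import Groth.Agent.LimDesc62.Wrap

/-! Pairs of algebraic schemes related by a morphism with a descending property after a field extension. -/

set_option autoImplicit false
set_option backward.isDefEq.respectTransparency false
set_option backward.defeqAttrib.useBackward true
universe u

open CategoryTheory CategoryTheory.Limits AlgebraicGeometry TopologicalSpace Topology Opposite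

namespace Groth.Agent.ConsProp93

/-- Over some field extension there is a morphism with property `Q` between the base changes. -/
abbrev ExistsMor (Q : MorphismProperty Scheme.{u}) :
    ∀ ⦃X Y T : Scheme.{u}⦄, (X ⟶ T) → (Y ⟶ T) → Prop :=
  fun X Y T gX gY => ∃ (T' X' Y' : Scheme.{u}) (h : T' ⟶ T) (gX' : X' ⟶ T') (gY' : Y' ⟶ T')
    (eX : X' ⟶ X) (eY : Y' ⟶ Y), IsIntegral T' ∧ Subsingleton ↥T' ∧
      IsPullback eX gX' gX h ∧ IsPullback eY gY' gY h ∧ ∃ g : X' ⟶ Y', g ≫ gY' = gX' ∧ Q g

/-- Two field extensions have a common one. -/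
theorem exists_common_point {T T₁ T₂ : Scheme.{u}} [Subsingleton T] [Nonempty T₁] [Nonempty T₂]
    (a : T₁ ⟶ T) (b : T₂ ⟶ T) : ∃ (T₃ : Scheme.{u}) (c : T₃ ⟶ T₁) (d : T₃ ⟶ T₂),
      IsIntegral T₃ ∧ Subsingleton T₃ ∧ c ≫ a = d ≫ b := by
  obtain ⟨z, -, -⟩ := Scheme.Pullback.exists_preimage_pullback (f := a) (g := b)
    (Classical.arbitrary T₁) (Classical.arbitrary T₂) (Subsingleton.elim _ _)
  exact ⟨_, (pullback a b).fromSpecResidueField z ≫ pullback.fst a b,
    (pullback a b).fromSpecResidueField z ≫ pullback.snd a b, inferInstance, inferInstance,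
    by rw [Category.assoc, Category.assoc, pullback.condition]⟩

variable {Q : MorphismProperty Scheme.{u}}

/-- Base change of a morphism over `T'` along `k`. -/
theorem exists_baseChange_mor [Q.IsStableUnderBaseChange] {X' Y' T' T'' : Scheme.{u}} {gX' : X' ⟶ T'}
    {gY' : Y' ⟶ T'} {g : X' ⟶ Y'} (hg : g ≫ gY' = gX') (hQ : Q g) (k : T'' ⟶ T') :
    ∃ g'' : pullback gX' k ⟶ pullback gY' k, g'' ≫ pullback.snd gY' k = pullback.snd gX' k ∧ Q g'' := by
  let g'' : pullback gX' k ⟶ pullback gY' k := pullback.lift (pullback.fst gX' k ≫ g) (pullback.snd gX' k)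
    (by rw [Category.assoc, hg, pullback.condition])
  have h : IsPullback (pullback.fst gX' k) g'' g (pullback.fst gY' k) := by
    refine IsPullback.of_bot ?_ (pullback.lift_fst _ _ _).symm (IsPullback.of_hasPullback gY' k)
    rw [hg, show g'' ≫ pullback.snd gY' k = pullback.snd gX' k from pullback.lift_snd _ _ _]
    exact IsPullback.of_hasPullback gX' k
  exact ⟨g'', pullback.lift_snd _ _ _, MorphismProperty.of_isPullback h hQ⟩

theorem isFieldStablePair_existsMor [Q.IsStableUnderBaseChange] :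
    ConsPropPair.IsFieldStablePair (ExistsMor Q) := by
  intro X X' Y Y' T T' gX gY gX' gY' eX eY h _ _ _ _ _ _ _ _ hX hY
  constructor
  · rintro ⟨T₁, X₁, Y₁, h₁, gX₁, gY₁, eX₁, eY₁, hi, hs, hX₁, hY₁, g, hg, hQ⟩
    obtain ⟨T₃, c, d, h3i, h3s, hcd⟩ := exists_common_point h₁ h
    obtain ⟨g'', hg'', hQ''⟩ := exists_baseChange_mor (Q := Q) hg hQ c
    have hX₃ := (IsPullback.of_hasPullback gX₁ c).paste_horiz hX₁
    have hY₃ := (IsPullback.of_hasPullback gY₁ c).paste_horiz hY₁
    rw [hcd] at hX₃ hY₃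
    refine ⟨T₃, _, _, d, _, _, hX.lift (pullback.fst gX₁ c ≫ eX₁) (pullback.snd gX₁ c ≫ d) (by rw [hX₃.w, Category.assoc]),
      hY.lift (pullback.fst gY₁ c ≫ eY₁) (pullback.snd gY₁ c ≫ d) (by rw [hY₃.w, Category.assoc]), h3i, h3s,
      ?_, ?_, g'', hg'', hQ''⟩
    · exact IsPullback.of_right (by rw [hX.lift_fst]; exact hX₃) (hX.lift_snd _ _ _) hX
    · exact IsPullback.of_right (by rw [hY.lift_fst]; exact hY₃) (hY.lift_snd _ _ _) hY
  · rintro ⟨T₁, X₁, Y₁, h₁, gX₁, gY₁, eX₁, eY₁, hi, hs, hX₁, hY₁, g, hg, hQ⟩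
    exact ⟨T₁, X₁, Y₁, h₁ ≫ h, gX₁, gY₁, eX₁ ≫ eX, eY₁ ≫ eY, hi, hs, hX₁.paste_horiz hX,
      hY₁.paste_horiz hY, g, hg, hQ⟩

/-- A morphism over the base with property `Q` gives the relation on every fibre. -/
theorem mem_locusPair_of_mor [Q.IsStableUnderBaseChange] {X Y S : Scheme.{u}} (f : X ⟶ Y) (g : Y ⟶ S)
    (hQ : Q f) (s : S) : s ∈ ConsPropPair.locusPair (ExistsMor Q) (f ≫ g) g :=
  ⟨_, _, _, 𝟙 _, (f ≫ g).fiberToSpecResidueField s, g.fiberToSpecResidueField s, 𝟙 _, 𝟙 _,
    inferInstance, inferInstance, IsPullback.of_horiz_isIso ⟨by simp⟩, IsPullback.of_horiz_isIso ⟨by simp⟩,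
    MoreMor.fiberMap f g s, pullback.lift_snd _ _ _,
    MorphismProperty.of_isPullback (isPullback_fiberMap f g s) hQ⟩

theorem lft_subalgSpec {A B : CommRingCat.{u}} [Algebra A B] (j : (LimTop61.FgSubalg A B)ᵒᵖ) :
    LocallyOfFiniteType (Spec.map (CommRingCat.ofHom (algebraMap A j.unop.1))) := by
  rw [HasRingHomProperty.Spec_iff (P := @LocallyOfFiniteType), CommRingCat.hom_ofHom,
    RingHom.finiteType_algebraMap]
  exact ⟨(Subalgebra.fg_top _).mpr j.unop.2⟩

theorem isIndConsPair_existsMor [Q.IsStableUnderBaseChange] [Q.RespectsIso]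
    (hd : LimDesc62.DescProp @LocallyOfFinitePresentation Q) :
    ConsPropPair.IsIndConsPair (ExistsMor Q) := by
  refine ⟨isFieldStablePair_existsMor, ?_⟩
  intro X Y S u v _ _ _ _ _ _ hη
  have := lfp_of_noetherian u
  have := qs_of_noetherian u
  have := lfp_of_noetherian v
  have := qs_of_noetherian v
  obtain ⟨T', X', Y', h, gX', gY', eX, eY, hi, hsub, hX, hY, g, hg, hQ⟩ := hη
  obtain ⟨z⟩ : Nonempty T' := inferInstance
  let K := T'.residueField z
  obtain ⟨g'', hg'', hQ''⟩ := exists_baseChange_mor (Q := Q) hg hQ (T'.fromSpecResidueField z)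
  let t : Spec K ⟶ S := (T'.fromSpecResidueField z ≫ h) ≫ S.fromSpecResidueField (genericPoint S)
  have hXK : IsPullback ((pullback.fst gX' _ ≫ eX) ≫ u.fiberι (genericPoint S))
      (pullback.snd gX' (T'.fromSpecResidueField z)) u t :=
    ((IsPullback.of_hasPullback gX' (T'.fromSpecResidueField z)).paste_horiz hX).paste_horiz
      (IsPullback.of_hasPullback u _)
  have hYK : IsPullback ((pullback.fst gY' _ ≫ eY) ≫ v.fiberι (genericPoint S))
      (pullback.snd gY' (T'.fromSpecResidueField z)) v t :=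
    ((IsPullback.of_hasPullback gY' (T'.fromSpecResidueField z)).paste_horiz hY).paste_horiz
      (IsPullback.of_hasPullback v _)
  have ht : ∀ w, t w = genericPoint S := fun w => by
    have := Set.mem_range_self (f := t) w
    obtain ⟨w', hw'⟩ : t w ∈ Set.range (S.fromSpecResidueField (genericPoint S)) :=
      ⟨(T'.fromSpecResidueField z ≫ h) w, (Scheme.Hom.comp_apply _ _ _).symm⟩
    rw [← hw']
    have := Set.mem_range_self (f := S.fromSpecResidueField (genericPoint S)) w'
    rwa [Scheme.range_fromSpecResidueField] at this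
  obtain ⟨_, ⟨U, hU, rfl⟩, hηU, -⟩ :=
    S.isBasis_affineOpens.exists_subset_of_mem_open (Set.mem_univ (genericPoint S)) isOpen_univ
  replace hU : IsAffineOpen U := hU
  obtain ⟨φ, hφ⟩ : ∃ φ : Γ(S, U) ⟶ K, Spec.map φ ≫ hU.fromSpec = t := by
    let l := IsOpenImmersion.lift hU.fromSpec t (by
      rintro _ ⟨w, rfl⟩
      rw [hU.range_fromSpec, ht]
      exact hηU)
    exact ⟨Spec.preimage l, by rw [Spec.map_preimage]; exact IsOpenImmersion.lift_fac _ _ _⟩
  let : Algebra Γ(S, U) K := φ.hom.toAlgebra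
  let D := LimTop61.subalgSpec Γ(S, U) K
  let c := LimTop61.subalgCone Γ(S, U) K
  have hc : IsLimit c := LimTop61.isLimitSubalgCone Γ(S, U) K
  let tS (j : (LimTop61.FgSubalg Γ(S, U) K)ᵒᵖ) : D.obj j ⟶ S :=
    Spec.map (CommRingCat.ofHom (algebraMap Γ(S, U) j.unop.1)) ≫ hU.fromSpec
  have htS {j k : (LimTop61.FgSubalg Γ(S, U) K)ᵒᵖ} (f : j ⟶ k) : D.map f ≫ tS k = tS j := by
    simp only [D, tS, LimTop61.subalgSpec, Functor.comp_map, Functor.op_map, Scheme.Spec_map,
      Quiver.Hom.unop_op]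
    erw [← Spec.map_comp_assoc]
    rfl
  have hπ (j : (LimTop61.FgSubalg Γ(S, U) K)ᵒᵖ) : c.π.app j ≫ tS j = t := by
    rw [← hφ]
    simp only [c, tS, LimTop61.subalgCone, Functor.mapCone_π_app]
    erw [← Spec.map_comp_assoc]
    rfl
  let j₀ : (LimTop61.FgSubalg Γ(S, U) K)ᵒᵖ := op ⟨⊥, Subalgebra.fg_bot⟩
  let xi := pullback.snd u (tS j₀)
  let yi := pullback.snd v (tS j₀)
  have : LocallyOfFinitePresentation xi := MorphismProperty.pullback_snd _ _ ‹_›
  have : LocallyOfFinitePresentation yi := MorphismProperty.pullback_snd _ _ ‹_›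
  have : CompactSpace ↥(pullback u (tS j₀)) :=
    QuasiCompact.compactSpace_of_compactSpace (pullback.snd u (tS j₀))
  have : QuasiSeparatedSpace ↥(pullback u (tS j₀)) :=
    quasiSeparatedSpace_of_quasiSeparated (pullback.snd u (tS j₀))
  let qX : pullback gX' (T'.fromSpecResidueField z) ⟶ pullback u (tS j₀) :=
    pullback.lift ((pullback.fst _ _ ≫ eX) ≫ u.fiberι _) (pullback.snd _ _ ≫ c.π.app j₀)
      (by rw [hXK.w, Category.assoc, hπ])
  let qY : pullback gY' (T'.fromSpecResidueField z) ⟶ pullback v (tS j₀) :=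
    pullback.lift ((pullback.fst _ _ ≫ eY) ≫ v.fiberι _) (pullback.snd _ _ ≫ c.π.app j₀)
      (by rw [hYK.w, Category.assoc, hπ])
  have hqX : IsPullback qX (pullback.snd gX' (T'.fromSpecResidueField z)) xi (c.π.app j₀) :=
    IsPullback.of_right (by rw [pullback.lift_fst, hπ]; exact hXK) (pullback.lift_snd _ _ _)
      (IsPullback.of_hasPullback u (tS j₀))
  have hqY : IsPullback qY (pullback.snd gY' (T'.fromSpecResidueField z)) yi (c.π.app j₀) :=
    IsPullback.of_right (by rw [pullback.lift_fst, hπ]; exact hYK) (pullback.lift_snd _ _ _)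
      (IsPullback.of_hasPullback v (tS j₀))
  obtain ⟨j, φj, g₀, hg₀, hgu⟩ := LimTop61.exists_hom_descend D c hc xi yi _ qX hqX (g'' ≫ qY)
    (by rw [Category.assoc, hqY.w, reassoc_of% hg''])
  let aj := pullback.snd xi (D.map φj)
  let bj := pullback.snd yi (D.map φj)
  let f₀ : pullback xi (D.map φj) ⟶ pullback yi (D.map φj) :=
    pullback.lift g₀ aj (by rw [hg₀, pullback.condition])
  have hf₀ : f₀ ≫ bj = aj := pullback.lift_snd _ _ _
  let πX : pullback gX' (T'.fromSpecResidueField z) ⟶ pullback xi (D.map φj) :=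
    pullback.lift qX (pullback.snd _ _ ≫ c.π.app j) (by rw [Category.assoc, c.w φj]; exact hqX.w)
  let πY : pullback gY' (T'.fromSpecResidueField z) ⟶ pullback yi (D.map φj) :=
    pullback.lift qY (pullback.snd _ _ ≫ c.π.app j) (by rw [Category.assoc, c.w φj]; exact hqY.w)
  have hXj : IsPullback πX (pullback.snd gX' (T'.fromSpecResidueField z)) aj (c.π.app j) :=
    IsPullback.of_right (by rw [pullback.lift_fst, c.w φj]; exact hqX) (pullback.lift_snd _ _ _)
      (IsPullback.of_hasPullback _ _)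
  have hYj : IsPullback πY (pullback.snd gY' (T'.fromSpecResidueField z)) bj (c.π.app j) :=
    IsPullback.of_right (by rw [pullback.lift_fst, c.w φj]; exact hqY) (pullback.lift_snd _ _ _)
      (IsPullback.of_hasPullback _ _)
  have hsq : IsPullback πX g'' f₀ πY := by
    refine IsPullback.of_bot (by rw [hg'', hf₀]; exact hXj) ?_ hYj
    apply pullback.hom_ext
    · rw [Category.assoc, pullback.lift_fst, Category.assoc, pullback.lift_fst]
      exact hgu
    · simp only [Category.assoc, f₀, πX, πY, aj, bj, pullback.lift_snd, pullback.lift_fst, reassoc_of% hg'']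
  have : LocallyOfFinitePresentation aj := MorphismProperty.pullback_snd _ _ ‹_›
  have : LocallyOfFinitePresentation bj := MorphismProperty.pullback_snd _ _ ‹_›
  have : QuasiCompact aj := inferInstanceAs (QuasiCompact (pullback.snd xi (D.map φj)))
  have : QuasiSeparated aj := inferInstanceAs (QuasiSeparated (pullback.snd xi (D.map φj)))
  have : LocallyOfFinitePresentation (f₀ ≫ bj) := hf₀.symm ▸ ‹_›
  have : QuasiCompact (f₀ ≫ bj) := hf₀.symm ▸ ‹_›
  have : QuasiSeparated (f₀ ≫ bj) := hf₀.symm ▸ ‹_›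
  have : QuasiCompact bj := inferInstanceAs (QuasiCompact (pullback.snd yi (D.map φj)))
  have : QuasiSeparated bj := inferInstanceAs (QuasiSeparated (pullback.snd yi (D.map φj)))
  have := LimDesc62.respectsIso_lfp.{u}
  obtain ⟨k, ψ, Xk, Yk, fk, gk, pY, pX, hYk, hXk, hQk⟩ :=
    hd.wrapFP D c hc j f₀ bj (fun _ h => h) g'' (pullback.snd gY' _) πY πX hYj hsq hQ''
  let r := tS k
  have hYk' : IsPullback ((pY ≫ pullback.fst yi (D.map φj)) ≫ pullback.fst v (tS j₀)) gk v r := by
    have := (hYk.paste_horiz (IsPullback.of_hasPullback yi (D.map φj))).paste_horiz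
      (IsPullback.of_hasPullback v (tS j₀))
    rwa [← D.map_comp, htS] at this
  have hXk' : IsPullback ((pX ≫ pullback.fst xi (D.map φj)) ≫ pullback.fst u (tS j₀)) (fk ≫ gk) u r := by
    have h1 := hXk.paste_vert hYk
    rw [hf₀] at h1
    have := (h1.paste_horiz (IsPullback.of_hasPullback xi (D.map φj))).paste_horiz
      (IsPullback.of_hasPullback u (tS j₀))
    rwa [← D.map_comp, htS] at this
  have hsub : Set.range r ⊆ ConsPropPair.locusPair (ExistsMor Q) u v := by
    rintro _ ⟨w, rfl⟩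
    exact (locusPair_preimage isFieldStablePair_existsMor hXk' hYk').le (mem_locusPair_of_mor fk gk hQk w)
  have : LocallyOfFiniteType r := by
    have := lft_subalgSpec (A := Γ(S, U)) (B := K) k
    exact inferInstanceAs (LocallyOfFiniteType (_ ≫ hU.fromSpec))
  have := lfp_of_noetherian r
  have : CompactSpace ↥(D.obj k) := inferInstanceAs (CompactSpace ↥(Spec _))
  have hr : IsLocallyConstructible (Set.range r) := Cons62.isLocallyConstructible_range r
  obtain ⟨w⟩ : Nonempty ↥(Spec K) := inferInstance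
  have hmem : genericPoint S ∈ Set.range r :=
    ⟨c.π.app k w, by rw [← ht w, ← hπ k]; exact (Scheme.Hom.comp_apply _ _ _).symm⟩
  exact ⟨_, interior_mono hsub (genericPoint_mem_interior (ConsPts12.isLocallyConstructible_iff.mp hr).1 hmem)⟩

end Groth.Agent.ConsProp93
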