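import Groth.Agent.ConsProp93.Pair
import Groth.Agent.Lim60.Props
import Groth.Agent.LimDesc62.QuasiFinite
import Groth.Agent.LimDesc62.OpenImm
import Groth.Agent.LimDesc62.ClosedImm
import Groth.Agent.S1400

/-! The relations of being geometrically related by a morphism of a given kind. -/

set_option autoImplicit false
set_option backward.isDefEq.respectTransparency.types false
universe u

open CategoryTheory CategoryTheory.Limits AlgebraicGeometry TopologicalSpace

namespace Groth.Agent.ConsProp93

theorem lfp_le_lft : (@LocallyOfFinitePresentation : MorphismProperty Scheme.{u}) ≤ @LocallyOfFiniteType :=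
  fun _ _ _ h => have := h; inferInstance

theorem pair_isomorphisms : ConsPropPair.IsIndConsPair (ExistsMor (MorphismProperty.isomorphisms Scheme.{u})) :=
  isIndConsPair_existsMor LimDesc62.descProp_isIso

theorem pair_isClosedImmersion :
    ConsPropPair.IsIndConsPair (ExistsMor (@IsClosedImmersion : MorphismProperty Scheme.{u})) :=
  isIndConsPair_existsMor (LimDesc62.descProp_isClosedImmersion.mono_hyp lfp_le_lft)

theorem pair_isOpenImmersion :
    ConsPropPair.IsIndConsPair (ExistsMor (@IsOpenImmersion : MorphismProperty Scheme.{u})) :=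
  isIndConsPair_existsMor LimDesc62.descProp_isOpenImmersion

theorem pair_surjective :
    ConsPropPair.IsIndConsPair (ExistsMor (@Surjective : MorphismProperty Scheme.{u})) :=
  isIndConsPair_existsMor LimDesc62.descProp_surjective

theorem pair_isFinite :
    ConsPropPair.IsIndConsPair (ExistsMor (@IsFinite : MorphismProperty Scheme.{u})) :=
  isIndConsPair_existsMor (Lim60.descProp_isFinite.mono_hyp lfp_le_lft)

theorem pair_isAffineHom :
    ConsPropPair.IsIndConsPair (ExistsMor (@IsAffineHom : MorphismProperty Scheme.{u})) :=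
  isIndConsPair_existsMor (LimDesc62.descProp_isAffineHom.mono_hyp le_top)

theorem pair_universallyInjective :
    ConsPropPair.IsIndConsPair (ExistsMor (@UniversallyInjective : MorphismProperty Scheme.{u})) :=
  isIndConsPair_existsMor (LimDesc62.descProp_universallyInjective.mono_hyp lfp_le_lft)

theorem pair_isImmersion :
    ConsPropPair.IsIndConsPair (ExistsMor (@IsImmersion : MorphismProperty Scheme.{u})) :=
  isIndConsPair_existsMor (LimDesc62.descProp_isImmersion.mono_hyp lfp_le_lft)

theorem pair_mono :
    ConsPropPair.IsIndConsPair (ExistsMor (MorphismProperty.monomorphisms Scheme.{u})) :=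
  isIndConsPair_existsMor (LimDesc62.descProp_mono.mono_hyp lfp_le_lft)

theorem pair_isSeparated :
    ConsPropPair.IsIndConsPair (ExistsMor (@IsSeparated : MorphismProperty Scheme.{u})) :=
  isIndConsPair_existsMor (LimDesc62.descProp_isSeparated.mono_hyp lfp_le_lft)

/-- Quasi-finite morphisms. -/
abbrev QFin : MorphismProperty Scheme.{u} := fun _ _ f =>
  LocallyOfFiniteType f ∧ QuasiCompact f ∧ LocallyQuasiFinite f

theorem isStableUnderBaseChange_qFin : QFin.{u}.IsStableUnderBaseChange :=
  ⟨fun sq hf => ⟨MorphismProperty.of_isPullback sq hf.1, MorphismProperty.of_isPullback sq hf.2.1,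
    MorphismProperty.of_isPullback sq hf.2.2⟩⟩

theorem descProp_qFin : LimDesc62.DescProp.{u} @LocallyOfFinitePresentation QFin := by
  constructor
  intro I _ _ D c hc _ i _ _ T a _ _ (ha : LocallyOfFinitePresentation a) h
  obtain ⟨j, φ, hj⟩ := LimDesc62.descProp_locallyQuasiFinite.desc D c hc i a
    (inferInstance : LocallyOfFiniteType a) h.2.2
  exact ⟨j, φ, inferInstance, inferInstance, hj⟩

theorem pair_quasiFinite : ConsPropPair.IsIndConsPair (ExistsMor QFin.{u}) :=
  have := isStableUnderBaseChange_qFin.{u}
  isIndConsPair_existsMor descProp_qFin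

theorem isQuasiAffineHom_iff {X Y : Scheme.{u}} (f : X ⟶ Y) :
    MoreMor.IsQuasiAffineHom f ↔ QuasiCompact f ∧ MoreMor.IsIndQuasiAffineHom f := by
  refine ⟨fun h => ⟨h.1, ?_⟩, fun ⟨hq, h⟩ => ⟨hq, fun V hV => ?_⟩⟩
  · rw [FlatMor66.isIndQuasiAffineHom_iff]
    exact fun V hV W hWV hW => FlatMor66.qa_of_le hWV (h.2 V hV) hW
  · rw [FlatMor66.isIndQuasiAffineHom_iff] at h
    exact h V hV _ le_rfl (hq.isCompact_preimage _ V.2 hV.isCompact)

/-- Quasi-affine morphisms. -/
abbrev QAff : MorphismProperty Scheme.{u} := fun _ _ f => MoreMor.IsQuasiAffineHom f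

theorem isStableUnderBaseChange_qAff : QAff.{u}.IsStableUnderBaseChange :=
  ⟨fun sq hf => by
    show MoreMor.IsQuasiAffineHom _
    rw [isQuasiAffineHom_iff]
    have h := (isQuasiAffineHom_iff _).mp hf
    exact ⟨MorphismProperty.of_isPullback sq h.1, S1400.result _ _ _ _ sq h.2⟩⟩

theorem descProp_qAff : LimDesc62.DescProp.{u} @LocallyOfFinitePresentation QAff :=
  LimDesc62.descProp_isQuasiAffine.mono_hyp le_top

theorem pair_quasiAffine : ConsPropPair.IsIndConsPair (ExistsMor QAff.{u}) :=
  have := isStableUnderBaseChange_qAff.{u}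
  isIndConsPair_existsMor descProp_qAff

end Groth.Agent.ConsProp93
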