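import Groth.Agent.ConsProp93.Basic

/-! Finiteness, quasi-finiteness and radiciality as constructible properties. -/

set_option autoImplicit false
universe u

open CategoryTheory CategoryTheory.Limits AlgebraicGeometry TopologicalSpace Topology

namespace Groth.Agent.ConsProp93

theorem isCons_universallyInjective :
    ConsProp.IsCons.{u} (fun Y T g => AlgebraicGeometry.UniversallyInjective g) := by
  refine ⟨?_, ?_⟩
  · intro Y Y' T T' g g' e h _ _ _ _ _ _ hsq
    have := surjective_of_subsingleton h
    exact universallyInjective_iff_of_isPullback hsq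
  · intro X S u _ _ _ _
    have := Cons62.respectsIso_universallyInjective.{u}
    have := lfp_of_noetherian u
    have := qs_of_noetherian u
    have h : ConsProp.locus (fun Y T g => AlgebraicGeometry.UniversallyInjective g) u =
        Cons62.goodSet (@UniversallyInjective : MorphismProperty Scheme.{u}) u (𝟙 S) :=
      Set.ext fun s => prop_fiber_iff (P := (@UniversallyInjective : MorphismProperty Scheme.{u})) u s
    rw [h]
    exact interior_nonempty_or (Cons62.cons_universallyInjective u (𝟙 S))


theorem isConsMor_universallyInjective :
    ConsProp.IsConsMor.{u} (fun X Y T f g => AlgebraicGeometry.UniversallyInjective f) := by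
  refine ⟨?_, ?_⟩
  · intro X X' Y Y' T T' f g f' g' eX eY h _ _ _ _ _ _ _ _ hY hX
    have := surjective_of_subsingleton h
    have := surjective_of_isPullback hY
    exact universallyInjective_iff_of_isPullback hX
  · intro X Y S f g _ _ _ _ _ _
    have := Cons62.respectsIso_universallyInjective.{u}
    have := lfp_of_noetherian g
    have := qs_of_noetherian g
    have := lfp_of_noetherian (f ≫ g)
    have := qs_of_noetherian (f ≫ g)
    obtain ⟨_, _, _⟩ := Cons62.fp_hyps f g
    have h : ConsProp.locusMor (fun X Y T f g => AlgebraicGeometry.UniversallyInjective f) f g =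
        Cons62.goodSet (@UniversallyInjective : MorphismProperty Scheme.{u}) f g :=
      Set.ext fun s => prop_fiberMap_iff (P := (@UniversallyInjective : MorphismProperty Scheme.{u})) f g s
    rw [h]
    exact interior_nonempty_or (Cons62.cons_universallyInjective f g)


theorem isConsMor_quasiFinite :
    ConsProp.IsConsMor.{u}
      (fun X Y T f g => AlgebraicGeometry.LocallyOfFiniteType f ∧ AlgebraicGeometry.QuasiCompact f ∧
        AlgebraicGeometry.LocallyQuasiFinite f) := by
  refine ⟨?_, ?_⟩
  · intro X X' Y Y' T T' f g f' g' eX eY h _ _ _ _ _ _ _ _ hY hX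
    have := surjective_of_subsingleton h
    have := surjective_of_isPullback hY
    have hf : LocallyOfFiniteType f := locallyOfFiniteType_of_comp f g
    have := qs_of_noetherian g
    have hq : QuasiCompact f := QuasiCompact.of_comp f g
    have hf' : LocallyOfFiniteType f' := MorphismProperty.of_isPullback hX hf
    have hq' : QuasiCompact f' := MorphismProperty.of_isPullback hX hq
    refine ⟨fun hp => ⟨hf', hq', MorphismProperty.of_isPullback hX hp.2.2⟩, fun hp => ⟨hf, hq, ?_⟩⟩
    have := hp.2.2
    refine .of_finite_preimage_singleton f fun y => ?_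
    obtain ⟨y', rfl⟩ := eY.surjective y
    refine ((f'.finite_preimage_singleton y').image eX).subset fun x (hx : f x = eY y') => ?_
    obtain ⟨w, hw1, hw2⟩ := Scheme.exists_preimage_of_isPullback hX x y' hx
    exact ⟨w, hw2, hw1⟩
  · intro X Y S f g _ _ _ _ _ _
    have := qs_of_noetherian g
    have hf : LocallyOfFiniteType f := locallyOfFiniteType_of_comp f g
    have hq : QuasiCompact f := QuasiCompact.of_comp f g
    let Q : MorphismProperty Scheme.{u} := @LocallyQuasiFinite
    have : Q.RespectsIso := by
      have : Q.IsStableUnderBaseChange := inferInstance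
      exact MorphismProperty.IsStableUnderBaseChange.respectsIso
    have h : ConsProp.locusMor (fun X Y T f g => AlgebraicGeometry.LocallyOfFiniteType f ∧
        AlgebraicGeometry.QuasiCompact f ∧ AlgebraicGeometry.LocallyQuasiFinite f) f g =
        {s | LocallyQuasiFinite (Cons62.fib f g s)} := by
      ext s
      have := LimDesc62.respectsIso_lft.{u}
      have : MorphismProperty.RespectsIso (@QuasiCompact : MorphismProperty Scheme.{u}) := respectsIso_quasiCompact
      have h1 : LocallyOfFiniteType (MoreMor.fiberMap f g s) :=
        (prop_fiberMap_iff (P := (@LocallyOfFiniteType : MorphismProperty Scheme.{u})) f g s).mpr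
          (inferInstanceAs (LocallyOfFiniteType (pullback.snd f _)))
      have h2 : QuasiCompact (MoreMor.fiberMap f g s) :=
        (prop_fiberMap_iff (P := (@QuasiCompact : MorphismProperty Scheme.{u})) f g s).mpr
          (inferInstanceAs (QuasiCompact (pullback.snd f _)))
      exact ⟨fun hs => (prop_fiberMap_iff (P := Q) f g s).mp hs.2.2,
        fun hs => ⟨h1, h2, show Q _ from (prop_fiberMap_iff (P := Q) f g s).mpr hs⟩⟩
    rw [h]
    exact interior_nonempty_or (isLocallyConstructible_lqf f g)


theorem isCons_isFinite :
    ConsProp.IsCons.{u} (fun Y T g => AlgebraicGeometry.IsFinite g) := by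
  refine ⟨?_, ?_⟩
  · intro Y Y' T T' g g' e h _ _ _ _ _ _ hsq
    have : LocallyOfFiniteType g' := MorphismProperty.of_isPullback hsq ‹LocallyOfFiniteType g›
    have : QuasiCompact g' := MorphismProperty.of_isPullback hsq ‹QuasiCompact g›
    have := surjective_of_subsingleton h
    have := surjective_of_isPullback hsq
    refine ⟨fun hg => MorphismProperty.of_isPullback hsq hg, fun hg => ?_⟩
    have := (isFinite_iff_finite g').mp hg
    refine (isFinite_iff_finite g).mpr ?_
    exact Finite.of_surjective e e.surjective
  · intro X S u _ _ _ _
    have h : ConsProp.locus (fun Y T g => AlgebraicGeometry.IsFinite g) u = {s | (u ⁻¹' {s}).Finite} :=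
      Set.ext fun s => isFinite_fiber_iff u s
    rw [h]
    exact interior_nonempty_or (isLocallyConstructible_finite u)

end Groth.Agent.ConsProp93
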